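import Groth.Agent.S1415
import Groth.Prelude.Def_MoreMor
import Mathlib.AlgebraicGeometry.ResidueField
import Mathlib.FieldTheory.SeparableDegree
import Mathlib.FieldTheory.IsAlgClosed.AlgebraicClosure

/-!
# The fibre integral as a sum over geometric points
-/

universe u

open CategoryTheory CategoryTheory.Limits AlgebraicGeometry

namespace Groth.L20.Weight

set_option linter.style.haveILetI false
set_option backward.isDefEq.respectTransparency.types false

variable {U V : Scheme.{u}} {Ω : Type u} [Field Ω]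

/-- The point underlying a field valued point. -/
noncomputable abbrev pt (φ : Spec (CommRingCat.of Ω) ⟶ U) : U := φ (IsLocalRing.closedPoint Ω)

/-- The lifts of a field valued point along a morphism. -/
abbrev Lifts (π : U ⟶ V) (ω : Spec (CommRingCat.of Ω) ⟶ V) : Type u :=
  {φ : Spec (CommRingCat.of Ω) ⟶ U // φ ≫ π = ω}

theorem pt_comp (φ : Spec (CommRingCat.of Ω) ⟶ U) (π : U ⟶ V) : pt (φ ≫ π) = π (pt φ) :=
  Scheme.Hom.comp_apply _ _ _

theorem Lifts.pt_eq {π : U ⟶ V} {ω : Spec (CommRingCat.of Ω) ⟶ V} (φ : Lifts π ω) :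
    π (pt φ.1) = pt ω := by
  rw [← pt_comp, φ.2]

theorem apply_eq_pt (φ : Spec (CommRingCat.of Ω) ⟶ U) (z : Spec (CommRingCat.of Ω)) :
    φ z = pt φ := by
  haveI : Subsingleton (Spec (CommRingCat.of Ω)) := inferInstanceAs (Subsingleton (PrimeSpectrum Ω))
  rw [pt, Subsingleton.elim z]

theorem range_eq_pt (φ : Spec (CommRingCat.of Ω) ⟶ U) : Set.range φ = {pt φ} := by
  ext x
  exact ⟨fun ⟨z, hz⟩ => hz ▸ apply_eq_pt φ z, fun hx => ⟨_, hx.symm⟩⟩

theorem exists_residue_hom (ω : Spec (CommRingCat.of Ω) ⟶ V) {v : V} (hv : pt ω = v) :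
    ∃ τ : V.residueField v ⟶ CommRingCat.of Ω, Spec.map τ ≫ V.fromSpecResidueField v = ω := by
  subst hv
  exact ⟨_, Scheme.descResidueField_stalkClosedPointTo_fromSpecResidueField Ω V ω⟩

theorem pt_fromSpecResidueField {u : U} (σ : U.residueField u ⟶ CommRingCat.of Ω) :
    pt (Spec.map σ ≫ U.fromSpecResidueField u) = u := by
  rw [pt_comp]
  exact Scheme.fromSpecResidueField_apply _ _

/-- Residue field extensions of a locally quasi-finite morphism are finite. -/
theorem finite_residueFieldMap (π : U ⟶ V) [LocallyQuasiFinite π] (u : U) :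
    (π.residueFieldMap u).hom.Finite := by
  haveI : LocallyQuasiFinite (Spec.map (π.residueFieldMap u) ≫ V.fromSpecResidueField (π u)) := by
    rw [Scheme.Hom.SpecMap_residueFieldMap_fromSpecResidueField]
    infer_instance
  haveI := LocallyQuasiFinite.of_comp (Spec.map (π.residueFieldMap u)) (V.fromSpecResidueField (π u))
  have h : (π.residueFieldMap u).hom.QuasiFinite :=
    (HasRingHomProperty.Spec_iff (P := @LocallyQuasiFinite)).mp this
  letI := (π.residueFieldMap u).hom.toAlgebra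
  haveI : Algebra.QuasiFinite (V.residueField (π u)) (U.residueField u) := h
  exact RingHom.finite_algebraMap.mpr Module.Finite.of_quasiFinite

/-- The separable degree of a residue field extension counts lifts. -/
theorem card_liftsOver [IsAlgClosed Ω] (π : U ⟶ V) [LocallyQuasiFinite π]
    (ω : Spec (CommRingCat.of Ω) ⟶ V) (u : U) (hu : π u = pt ω) :
    Finite {φ : Lifts π ω // pt φ.1 = u} ∧
      Nat.card {φ : Lifts π ω // pt φ.1 = u} =
        (letI := (π.residueFieldMap u).hom.toAlgebra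
         Field.finSepDegree (V.residueField (π u)) (U.residueField u)) := by
  obtain ⟨τ, hτ⟩ := exists_residue_hom ω hu.symm
  letI iu := (π.residueFieldMap u).hom.toAlgebra
  letI := τ.hom.toAlgebra
  haveI : Module.Finite (V.residueField (π u)) (U.residueField u) :=
    RingHom.finite_algebraMap.mp (finite_residueFieldMap π u)
  have hcomp : ∀ σ : U.residueField u ⟶ CommRingCat.of Ω,
      ((Spec.map σ ≫ U.fromSpecResidueField u) ≫ π = ω ↔ π.residueFieldMap u ≫ σ = τ) := fun σ => by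
    rw [Category.assoc, ← Scheme.Hom.SpecMap_residueFieldMap_fromSpecResidueField,
      ← Category.assoc, ← Spec.map_comp, ← hτ, cancel_mono]
    exact Spec.map_inj
  let e₁ : (U.residueField u →ₐ[V.residueField (π u)] Ω) → {φ : Lifts π ω // pt φ.1 = u} := fun a =>
    ⟨⟨Spec.map (CommRingCat.ofHom a.toRingHom) ≫ U.fromSpecResidueField u,
      (hcomp _).mpr (by ext x; exact a.commutes x)⟩, pt_fromSpecResidueField _⟩
  have hb : Function.Bijective e₁ := by
    constructor
    · intro a b hab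
      have := congrArg (fun z : {φ : Lifts π ω // pt φ.1 = u} => z.1.1) hab
      have h2 := Spec.map_injective ((cancel_mono (U.fromSpecResidueField u)).mp this)
      exact AlgHom.ext fun x => congr($h2 x)
    · rintro ⟨⟨φ, hφ⟩, hpt⟩
      obtain ⟨σ, hσ⟩ := exists_residue_hom φ hpt
      have hστ := (hcomp σ).mp (by rw [hσ, hφ])
      refine ⟨{ toRingHom := σ.hom, commutes' := fun x => congr($hστ x) }, ?_⟩
      exact Subtype.ext (Subtype.ext hσ)
  let e := Equiv.ofBijective e₁ hb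
  have hcard : Nat.card {φ : Lifts π ω // pt φ.1 = u} =
      Field.finSepDegree (V.residueField (π u)) (U.residueField u) := by
    rw [← Nat.card_congr e, Field.finSepDegree_eq_of_isAlgClosed (V.residueField (π u)) (U.residueField u) Ω]
  refine ⟨Nat.finite_of_card_ne_zero ?_, hcard⟩
  rw [hcard]
  exact NeZero.ne (Field.finSepDegree (V.residueField (π u)) (U.residueField u))

/-- The points of a fibre are those of the lifts. -/
theorem exists_lift_of_apply_eq [IsAlgClosed Ω] (π : U ⟶ V) [LocallyQuasiFinite π]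
    (ω : Spec (CommRingCat.of Ω) ⟶ V) {u : U} (hu : π u = pt ω) :
    ∃ φ : Lifts π ω, pt φ.1 = u := by
  obtain ⟨-, hc⟩ := card_liftsOver π ω u hu
  letI := (π.residueFieldMap u).hom.toAlgebra
  haveI : Module.Finite (V.residueField (π u)) (U.residueField u) :=
    RingHom.finite_algebraMap.mp (finite_residueFieldMap π u)
  have h0 : Nat.card {φ : Lifts π ω // pt φ.1 = u} ≠ 0 := by
    rw [hc]
    exact NeZero.ne (Field.finSepDegree (V.residueField (π u)) (U.residueField u))
  obtain ⟨⟨φ, hφ⟩⟩ := (Nat.card_ne_zero.mp h0).1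
  exact ⟨φ, hφ⟩

theorem finite_lifts [IsAlgClosed Ω] (π : U ⟶ V) [LocallyQuasiFinite π]
    (ω : Spec (CommRingCat.of Ω) ⟶ V) (hfin : (π ⁻¹' {pt ω}).Finite) : Finite (Lifts π ω) := by
  haveI : Finite {u : U // π u = pt ω} := hfin.to_subtype
  haveI : ∀ u : {u : U // π u = pt ω}, Finite {φ : Lifts π ω // pt φ.1 = u.1} := fun u =>
    (card_liftsOver π ω u.1 u.2).1
  exact Finite.of_surjective
    (fun x : (u : {u : U // π u = pt ω}) × {φ : Lifts π ω // pt φ.1 = u.1} => x.2.1)
    fun φ => ⟨⟨⟨pt φ.1, φ.pt_eq⟩, φ, rfl⟩, rfl⟩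

/-- The fibre integral is the sum of the values at the geometric points of the fibre. -/
theorem fibreIntegral_eq [IsAlgClosed Ω] (π : U ⟶ V) [LocallyQuasiFinite π] (w : U → ℤ)
    (ω : Spec (CommRingCat.of Ω) ⟶ V) (hfin : (π ⁻¹' {pt ω}).Finite) {v : V} (hv : pt ω = v) :
    MoreMor.fibreIntegral π w v = ∑ᶠ φ : Lifts π ω, w (pt φ.1) := by
  classical
  subst hv
  haveI := finite_lifts π ω hfin
  haveI : Finite {u : U // π u = pt ω} := hfin.to_subtype
  haveI := Fintype.ofFinite (Lifts π ω)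
  haveI := Fintype.ofFinite {u : U // π u = pt ω}
  rw [MoreMor.fibreIntegral, finsum_eq_sum_of_fintype, finsum_eq_sum_of_fintype]
  rw [← Fintype.sum_fiberwise (fun φ : Lifts π ω => (⟨pt φ.1, φ.pt_eq⟩ : {u : U // π u = pt ω}))]
  refine Finset.sum_congr rfl fun u _ => ?_
  obtain ⟨_, hc⟩ := card_liftsOver π ω u.1 u.2
  rw [Finset.sum_congr rfl (g := fun _ => w u.1) fun φ _ => by
    rw [show pt φ.1.1 = u.1 from congrArg Subtype.val φ.2], Finset.sum_const, Finset.card_univ,
    nsmul_eq_mul, mul_comm, ← hc]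
  congr 2
  rw [← Nat.card_eq_fintype_card]
  exact Nat.card_congr (Equiv.subtypeEquivRight fun φ => by rw [Subtype.ext_iff])

/-- Lifts along a base change. -/
noncomputable def liftsPullbackEquiv {U' V' : Scheme.{u}} {π : U ⟶ V} {π' : U' ⟶ V'} {h : U' ⟶ U}
    {g : V' ⟶ V} (hc : IsPullback h π' π g) (ω' : Spec (CommRingCat.of Ω) ⟶ V') :
    Lifts π' ω' ≃ Lifts π (ω' ≫ g) where
  toFun φ := ⟨φ.1 ≫ h, by rw [Category.assoc, hc.w, ← Category.assoc, φ.2]⟩
  invFun ψ := ⟨hc.lift ψ.1 ω' ψ.2, hc.lift_snd _ _ _⟩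
  left_inv φ := Subtype.ext (hc.hom_ext (hc.lift_fst _ _ _) ((hc.lift_snd _ _ _).trans φ.2.symm))
  right_inv ψ := Subtype.ext (hc.lift_fst _ _ _)

@[simp]
theorem liftsPullbackEquiv_apply {U' V' : Scheme.{u}} {π : U ⟶ V} {π' : U' ⟶ V'} {h : U' ⟶ U}
    {g : V' ⟶ V} (hc : IsPullback h π' π g) (ω' : Spec (CommRingCat.of Ω) ⟶ V') (φ : Lifts π' ω') :
    (liftsPullbackEquiv hc ω' φ).1 = φ.1 ≫ h := rfl

/-- A geometric point over a point. -/
theorem exists_geomPoint (v : V) : ∃ (Ω : Type u) (_ : Field Ω) (_ : IsAlgClosed Ω)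
    (ω : Spec (CommRingCat.of Ω) ⟶ V), pt ω = v :=
  ⟨AlgebraicClosure (V.residueField v), inferInstance, inferInstance,
    Spec.map (CommRingCat.ofHom (algebraMap (V.residueField v) (AlgebraicClosure (V.residueField v)))) ≫ V.fromSpecResidueField v,
    pt_fromSpecResidueField _⟩

/-- A geometric point over a point of a source, above a given one. -/
theorem exists_geomPoint_lift [IsAlgClosed Ω] {V' : Scheme.{u}} (g : V' ⟶ V) [LocallyQuasiFinite g]
    (ω : Spec (CommRingCat.of Ω) ⟶ V) {v' : V'} (h : g v' = pt ω) :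
    ∃ ω' : Spec (CommRingCat.of Ω) ⟶ V', ω' ≫ g = ω ∧ pt ω' = v' := by
  obtain ⟨⟨φ, h1⟩, h2⟩ := exists_lift_of_apply_eq g ω h
  exact ⟨φ, h1, h2⟩

/-- Fibre integrals commute with base change. -/
theorem fibreIntegral_baseChange {U' V' : Scheme.{u}} (π : U ⟶ V) [LocallyQuasiFinite π]
    (π' : U' ⟶ V') (h : U' ⟶ U) (g : V' ⟶ V) (hc : IsPullback h π' π g) (w : U → ℤ) (v' : V')
    (hfin : (π ⁻¹' {g v'}).Finite) :
    MoreMor.fibreIntegral π' (fun u => w (h u)) v' = MoreMor.fibreIntegral π w (g v') := by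
  obtain ⟨Ω, _, _, ω', hω'⟩ := exists_geomPoint v'
  have hωg : pt (ω' ≫ g) = g v' := by rw [pt_comp, hω']
  haveI : LocallyQuasiFinite π' :=
    MorphismProperty.of_isPullback (P := @LocallyQuasiFinite) hc inferInstance
  have hl := finite_lifts π (ω' ≫ g) (by rwa [hωg])
  haveI : Finite (Lifts π' ω') := Finite.of_equiv _ (liftsPullbackEquiv hc ω').symm
  have hfin' : (π' ⁻¹' {pt ω'}).Finite := by
    refine (Set.finite_range fun φ : Lifts π' ω' => pt φ.1).subset fun u hu => ?_
    obtain ⟨φ, hφ⟩ := exists_lift_of_apply_eq π' ω' hu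
    exact ⟨φ, hφ⟩
  rw [fibreIntegral_eq π' _ ω' hfin' hω', fibreIntegral_eq π w (ω' ≫ g) (by rwa [hωg]) hωg]
  refine finsum_eq_of_bijective _ (liftsPullbackEquiv hc ω').bijective fun φ => ?_
  rw [liftsPullbackEquiv_apply, pt_comp]

/-- A locally quasi-finite morphism from a quasi-compact scheme has boundedly many geometric
points in its fibres. -/
theorem exists_bound {X Y : Scheme.{u}} (f : X ⟶ Y) [LocallyQuasiFinite f] [LocallyOfFiniteType f]
    [CompactSpace X] :
    ∃ d : ℕ, ∀ (Ω : Type u) [Field Ω] [IsAlgClosed Ω] (ω : Spec (CommRingCat.of Ω) ⟶ Y),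
      Finite (Lifts f ω) ∧ Nat.card (Lifts f ω) ≤ d := by
  classical
  have hc : ∀ x : X, ∃ (W : Y.Opens) (U : X.Opens) (_ : IsAffineOpen W) (_ : IsAffineOpen U)
      (_ : U ≤ f ⁻¹ᵁ W), x ∈ U := by
    intro x
    obtain ⟨_, ⟨W, hW, rfl⟩, hxW, -⟩ :=
      Y.isBasis_affineOpens.exists_subset_of_mem_open (Set.mem_univ (f x)) isOpen_univ
    obtain ⟨_, ⟨U, hU, rfl⟩, hxU, hUW⟩ :=
      X.isBasis_affineOpens.exists_subset_of_mem_open (show x ∈ f ⁻¹ᵁ W from hxW) (f ⁻¹ᵁ W).2
    exact ⟨W, U, hW, hU, hUW, hxU⟩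
  choose W U hW hU hUW hxU using hc
  obtain ⟨s, hs⟩ := isCompact_univ.elim_finite_subcover (fun x => (U x : Set X))
    (fun x => (U x).2) (fun x _ => Set.mem_iUnion.mpr ⟨x, hxU x⟩)
  choose d hd using fun x => Groth.Agent.S1415.exists_bound_square f (hW x) (hU x) (hUW x)
  refine ⟨∑ x ∈ s, d x, fun Ω _ _ ω => ?_⟩
  let P := pullback f ω
  let z : Lifts f ω → P := fun φ =>
    pt (pullback.lift φ.1 (𝟙 _) (φ.2.trans (Category.id_comp ω).symm))
  have hz : Function.Injective z := by
    intro φ φ' h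
    obtain ⟨σ, hσ⟩ := exists_residue_hom
      (pullback.lift φ.1 (𝟙 _) (φ.2.trans (Category.id_comp ω).symm)) h
    obtain ⟨σ', hσ'⟩ := exists_residue_hom
      (pullback.lift φ'.1 (𝟙 _) (φ'.2.trans (Category.id_comp ω).symm)) (rfl : _ = z φ')
    let r := Spec.preimage (P.fromSpecResidueField (z φ') ≫ pullback.snd f ω)
    have hr : ∀ τ : P.residueField (z φ') ⟶ CommRingCat.of Ω,
        (Spec.map τ ≫ P.fromSpecResidueField (z φ')) ≫ pullback.snd f ω = 𝟙 _ → r ≫ τ = 𝟙 _ := by
      intro τ hτ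
      apply Spec.map_injective
      rw [Spec.map_comp, Spec.map_id, Spec.map_preimage, ← Category.assoc, hτ]
    have h1 := hr σ (by rw [hσ, pullback.lift_snd])
    have h2 := hr σ' (by rw [hσ', pullback.lift_snd])
    have h3 : σ = σ' := by
      ext a
      obtain ⟨b, rfl⟩ : ∃ b, r b = a := ⟨σ a, σ.hom.injective congr(($h1).hom (σ a))⟩
      exact congr(($h1).hom b).trans congr(($h2).hom b).symm
    subst h3
    apply Subtype.ext
    have := congrArg (fun k => k ≫ pullback.fst f ω) (hσ.symm.trans hσ')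
    rwa [pullback.lift_fst, pullback.lift_fst] at this
  have hb : ∀ T : Finset (Lifts f ω), T.card ≤ ∑ x ∈ s, d x := by
    intro T
    calc T.card = (T.image z).card := (Finset.card_image_of_injective _ hz).symm
      _ ≤ (s.biUnion fun x => (T.image z).filter fun q => pullback.fst f ω q ∈ U x).card := by
        refine Finset.card_le_card fun q hq => ?_
        obtain ⟨x, hx, hqx⟩ := Set.mem_iUnion₂.mp (hs (Set.mem_univ (pullback.fst f ω q)))
        exact Finset.mem_biUnion.mpr ⟨x, hx, Finset.mem_filter.mpr ⟨hq, hqx⟩⟩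
      _ ≤ ∑ x ∈ s, ((T.image z).filter fun q => pullback.fst f ω q ∈ U x).card :=
        Finset.card_biUnion_le
      _ ≤ ∑ x ∈ s, d x := Finset.sum_le_sum fun x _ =>
        hd x Ω ω _ _ _ (IsPullback.of_hasPullback f ω) _ fun q hq => (Finset.mem_filter.mp hq).2
  have hfin : Finite (Lifts f ω) := by
    by_contra hinf
    rw [not_finite_iff_infinite] at hinf
    obtain ⟨T, hT⟩ := Infinite.exists_subset_card_eq (Lifts f ω) ((∑ x ∈ s, d x) + 1)
    have := hb T
    omega
  refine ⟨hfin, ?_⟩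
  haveI := Fintype.ofFinite (Lifts f ω)
  rw [Nat.card_eq_fintype_card, ← Finset.card_univ]
  exact hb _

/-- A locally quasi-finite morphism from a quasi-compact scheme has finite fibres. -/
theorem finite_fibre {X Y : Scheme.{u}} (f : X ⟶ Y) [LocallyQuasiFinite f] [LocallyOfFiniteType f]
    [CompactSpace X] (y : Y) : (f ⁻¹' {y}).Finite := by
  obtain ⟨d, hd⟩ := exists_bound f
  obtain ⟨Ω, _, _, ω, hω⟩ := exists_geomPoint y
  haveI := (hd Ω ω).1
  refine (Set.finite_range fun φ : Lifts f ω => pt φ.1).subset fun x hx => ?_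
  obtain ⟨φ, hφ⟩ := exists_lift_of_apply_eq f ω (hω.symm ▸ hx)
  exact ⟨φ, hφ⟩

end Groth.L20.Weight
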