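import Groth.Agent.L20.Weight.Split
import Mathlib.FieldTheory.PurelyInseparable.Basic

/-!
# Splitting quasi-finite points of separated morphisms étale locally on the base
-/

universe u

open CategoryTheory CategoryTheory.Limits AlgebraicGeometry TopologicalSpace

namespace Groth.L20.Weight

set_option linter.style.haveILetI false
set_option backward.isDefEq.respectTransparency.types false

/-- Pure inseparability of residue fields does not change along open immersions. -/
theorem isPurelyInseparable_of_openImmersion {U P V : Scheme.{u}} (j : U ⟶ P) [IsOpenImmersion j]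
    (π : P ⟶ V) (u : U)
    (h : letI := ((j ≫ π).residueFieldMap u).hom.toAlgebra
      IsPurelyInseparable (V.residueField ((j ≫ π) u)) (U.residueField u)) :
    letI := (π.residueFieldMap (j u)).hom.toAlgebra
    IsPurelyInseparable (V.residueField (π (j u))) (P.residueField (j u)) := by
  letI a1 := ((j ≫ π).residueFieldMap u).hom.toAlgebra
  letI a2 := (π.residueFieldMap (j u)).hom.toAlgebra
  letI a3 : Algebra (V.residueField (π (j u))) (U.residueField u) := a1
  haveI : IsPurelyInseparable (V.residueField (π (j u))) (U.residueField u) := h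
  let e : U.residueField u ≃ₐ[V.residueField (π (j u))] P.residueField (j u) :=
    (AlgEquiv.ofRingEquiv (f := (asIso (j.residueFieldMap u)).commRingCatIsoToRingEquiv) (fun r => by
      change j.residueFieldMap u (π.residueFieldMap (j u) r) = (j ≫ π).residueFieldMap u r
      rw [Scheme.residueFieldMap_comp]
      rfl)).symm
  exact e.isPurelyInseparable

/-- A point with a single geometric point has purely inseparable residue field. -/
theorem isPurelyInseparable_of_unique {U V : Scheme.{u}} {Ω : Type u} [Field Ω] [IsAlgClosed Ω] (π : U ⟶ V)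
    [LocallyQuasiFinite π] (ω : Spec (CommRingCat.of Ω) ⟶ V) (φ : Lifts π ω) (h : ∀ ψ, ψ = φ) :
    letI := (π.residueFieldMap (pt φ.1)).hom.toAlgebra
    IsPurelyInseparable (V.residueField (π (pt φ.1))) (U.residueField (pt φ.1)) := by
  obtain ⟨-, hc⟩ := card_liftsOver π ω (pt φ.1) φ.pt_eq
  letI := (π.residueFieldMap (pt φ.1)).hom.toAlgebra
  rw [isPurelyInseparable_iff_finSepDegree_eq_one, ← hc]
  haveI : Subsingleton {ψ : Lifts π ω // pt ψ.1 = pt φ.1} :=
    ⟨fun a b => Subtype.ext ((h a.1).trans (h b.1).symm)⟩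
  haveI : Nonempty {ψ : Lifts π ω // pt ψ.1 = pt φ.1} := ⟨⟨φ, rfl⟩⟩
  exact Nat.card_unique

/-- An open which is finite over a separated target is closed. -/
theorem isClosed_of_isFinite {P V : Scheme.{u}} (π : P ⟶ V) [IsSeparated π] (W : P.Opens)
    [IsFinite (W.ι ≫ π)] : IsClosed (W : Set P) := by
  haveI : UniversallyClosed W.ι := UniversallyClosed.of_comp_of_isSeparated W.ι π
  rw [← Scheme.Opens.range_ι W]
  exact W.ι.isClosedMap.isClosed_range

/-- A clopen inside an open finite over the base is finite over the base. -/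
theorem isFinite_of_le {P V : Scheme.{u}} (π : P ⟶ V) (W W' : P.Opens) (hle : W' ≤ W)
    (hc : IsClosed (W' : Set P)) [IsFinite (W.ι ≫ π)] : IsFinite (W'.ι ≫ π) := by
  haveI : IsPreimmersion (P.homOfLE hle) := inferInstance
  haveI : IsClosedImmersion (P.homOfLE hle) := by
    refine IsClosedImmersion.of_isPreimmersion _ ?_
    have : Set.range (P.homOfLE hle) = W.ι ⁻¹' (W' : Set P) := by
      ext w
      constructor
      · rintro ⟨z, rfl⟩
        change W.ι (P.homOfLE hle z) ∈ W'
        rw [← Scheme.Hom.comp_apply, Scheme.homOfLE_ι]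
        exact z.2
      · intro hw
        refine ⟨⟨W.ι w, hw⟩, W.ι.isOpenEmbedding.injective ?_⟩
        rw [← Scheme.Hom.comp_apply, Scheme.homOfLE_ι]
        rfl
    rw [this]
    exact hc.preimage W.ι.continuous
  rw [← Scheme.homOfLE_ι P hle, Category.assoc]
  infer_instance

set_option maxHeartbeats 1000000 in
/-- Étale locally on the base finitely many quasi-finite points of a separated morphism sit in
pairwise disjoint clopen finite pieces, one for each point over the new base point. -/
theorem exists_isolate {X S : Scheme.{u}} (f : X ⟶ S) [LocallyOfFiniteType f] [IsSeparated f] (s : S)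
    (T : Finset X) (hT : ∀ x ∈ T, f.QuasiFiniteAt x) :
    ∃ (V : Scheme.{u}) (g : V ⟶ S) (u : V), Etale g ∧ g u = s ∧
      ∃ (κ : Type u) (_ : Finite κ) (W : κ → (pullback f g).Opens) (v : κ → ↑(pullback f g)),
        (∀ a, IsClopen (W a : Set ↑(pullback f g))) ∧
        (∀ a b, ((W a : Set ↑(pullback f g)) ∩ W b).Nonempty → a = b) ∧
        (∀ a, v a ∈ W a ∧ IsFinite ((W a).ι ≫ pullback.snd f g) ∧ pullback.snd f g (v a) = u ∧
          (∀ w : ↑(pullback f g), w ∈ W a → pullback.snd f g w = u → w = v a) ∧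
          (letI := ((pullback.snd f g).residueFieldMap (v a)).hom.toAlgebra
           IsPurelyInseparable ↑(V.residueField (pullback.snd f g (v a)))
             ↑((pullback f g).residueField (v a))) ∧
          pullback.fst f g (v a) ∈ T) ∧
        (∀ w : ↑(pullback f g), pullback.snd f g w = u → pullback.fst f g w ∈ T → ∃ a, w ∈ W a) := by
  classical
  let Ω := AlgebraicClosure (S.residueField s)
  let ω : Spec (CommRingCat.of Ω) ⟶ S :=
    Spec.map (CommRingCat.ofHom (algebraMap (S.residueField s) Ω)) ≫ S.fromSpecResidueField s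
  have hωs : pt ω = s := pt_fromSpecResidueField _
  let X' := f.quasiFiniteLocus
  let f' : X'.toScheme ⟶ S := X'.ι ≫ f
  haveI : LocallyQuasiFinite f' := inferInstanceAs (LocallyQuasiFinite (f.quasiFiniteLocus.ι ≫ f))
  let sT : Set (Lifts f' ω) := {φ | X'.ι (pt φ.1) ∈ T}
  have hfin : sT.Finite := by
    have : sT ⊆ ⋃ x ∈ {x : X'.toScheme | X'.ι x ∈ T ∧ f' x = pt ω}, {φ : Lifts f' ω | pt φ.1 = x} :=
      fun φ hφ => Set.mem_iUnion₂.2 ⟨pt φ.1, ⟨hφ, φ.pt_eq⟩, rfl⟩
    refine Set.Finite.subset (Set.Finite.biUnion ?_ fun x hx => ?_) this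
    · exact ((T.finite_toSet.preimage X'.ι.isOpenEmbedding.injective.injOn)).subset fun x hx => hx.1
    · exact Set.finite_coe_iff.mp (card_liftsOver f' ω x hx.2).1
  obtain ⟨V, _, g, hg, ω', hω', hP⟩ := exists_pieces f' ω (fun _ => ⊤) (fun _ => trivial) hfin.toFinset
  choose P hP' using hP
  let u : V := pt ω'
  let κ := ↥hfin.toFinset
  let j : pullback f' g ⟶ pullback f g :=
    pullback.map f' g f g X'.ι (𝟙 _) (𝟙 _) (Category.comp_id _) ((Category.comp_id _).trans (Category.id_comp _).symm)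
  have hj1 : j ≫ pullback.fst f g = pullback.fst f' g ≫ X'.ι := pullback.lift_fst _ _ _
  have hj2 : j ≫ pullback.snd f g = pullback.snd f' g :=
    (pullback.lift_snd _ _ _).trans (Category.comp_id _)
  haveI : LocallyQuasiFinite (pullback.snd f' g) := inferInstance
  haveI : IsSeparated (pullback.snd f g) := inferInstance
  -- the pieces inside `X ×_S V`
  let U : κ → (pullback f g).Opens := fun a => j ''ᵁ (P a.1 a.2).U
  have hUfin : ∀ a, IsFinite ((U a).ι ≫ pullback.snd f g) := fun a => by
    haveI := (P a.1 a.2).finite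
    let k := (P a.1 a.2).U.ι ≫ j
    have hk : k.opensRange = U a := by
      rw [Scheme.Hom.opensRange_comp, Scheme.Opens.opensRange_ι]
    rw [← hk, ← MorphismProperty.cancel_left_of_respectsIso @IsFinite k.isoOpensRange.hom,
      Scheme.Hom.isoOpensRange_hom_ι_assoc, Category.assoc, hj2]
    infer_instance
  haveI : ∀ a, IsFinite ((U a).ι ≫ pullback.snd f g) := hUfin
  have hUc : ∀ a, IsClosed (U a : Set ↑(pullback f g)) := fun a => isClosed_of_isFinite (pullback.snd f g) (U a)
  let q : κ → (Spec (CommRingCat.of Ω) ⟶ pullback f g) := fun a =>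
    (P a.1 a.2).φU.1 ≫ (P a.1 a.2).U.ι ≫ j
  have hq1 : ∀ a, q a ≫ pullback.fst f g = a.1.1 ≫ X'.ι := fun a => by
    simp only [q, Category.assoc, hj1]
    rw [reassoc_of% (P a.1 a.2).hφU]
  have hq2 : ∀ a, q a ≫ pullback.snd f g = ω' := fun a => by
    simp only [q, Category.assoc, hj2]
    exact (P a.1 a.2).φU.2
  have hqU : ∀ a, pt (q a) ∈ U a := fun a => by
    refine ⟨(P a.1 a.2).U.ι (pt (P a.1 a.2).φU.1), (pt (P a.1 a.2).φU.1).2, ?_⟩
    rw [pt_comp, Scheme.Hom.comp_apply]; rfl
  have huniq : ∀ a (r : Spec (CommRingCat.of Ω) ⟶ pullback f g), r ≫ pullback.snd f g = ω' →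
      pt r ∈ U a → r = q a := by
    intro a r hr hra
    let k := (P a.1 a.2).U.ι ≫ j
    have hrange : Set.range r ⊆ Set.range k := by
      rw [range_eq_pt, Set.singleton_subset_iff]
      obtain ⟨z, hz, hzr⟩ := hra
      exact ⟨⟨z, hz⟩, hzr⟩
    let r' := IsOpenImmersion.lift k r hrange
    have hr' : r' ≫ k = r := IsOpenImmersion.lift_fac _ _ _
    have := (P a.1 a.2).unique ⟨r', by
      rw [← hj2, ← Category.assoc (P a.1 a.2).U.ι, ← Category.assoc r']
      exact (congrArg (· ≫ _) hr').trans hr⟩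
    rw [← hr', show r' = (P a.1 a.2).φU.1 from congrArg Subtype.val this]
  have hne : ∀ a b, pt (q a) ∈ U b → a = b := fun a b h => by
    have := huniq b (q a) (hq2 a) h
    apply Subtype.ext
    apply Subtype.ext
    rw [← cancel_mono X'.ι, ← hq1, ← hq1, this]
  let W : κ → (pullback f g).Opens := fun a =>
    ⟨(U a : Set ↑(pullback f g)) \ ⋃ b : {b : κ // b ≠ a}, (U b.1 : Set ↑(pullback f g)),
      (U a).2.sdiff (isClosed_iUnion_of_finite fun b => hUc b.1)⟩
  have hWc : ∀ a, IsClosed (W a : Set ↑(pullback f g)) := fun a =>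
    (hUc a).sdiff (isOpen_iUnion fun b => (U b.1).2)
  have hWU : ∀ a, W a ≤ U a := fun a w hw => hw.1
  have hv : ∀ a, pt (q a) ∈ W a := fun a => ⟨hqU a, fun h => by
    obtain ⟨b, hb⟩ := Set.mem_iUnion.1 h
    exact b.2 (hne a b.1 hb).symm⟩
  haveI hWfin : ∀ a, IsFinite ((W a).ι ≫ pullback.snd f g) := fun a =>
    isFinite_of_le _ (U a) (W a) (hWU a) (hWc a)
  refine ⟨V, g, u, hg, ?_, κ, inferInstance, W, fun a => pt (q a), fun a => ⟨hWc a, (W a).2⟩, ?_,
    fun a => ⟨hv a, hWfin a, ?_, ?_, ?_, ?_⟩, ?_⟩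
  · rw [← pt_comp, hω', hωs]
  · intro a b ⟨w, ha, hb⟩
    by_contra hab
    exact ha.2 (Set.mem_iUnion.2 ⟨⟨b, Ne.symm hab⟩, hb.1⟩)
  · rw [← pt_comp, hq2]
  · intro w hwa hwu
    obtain ⟨ψ, hψ⟩ := exists_lift_of_apply_eq ((W a).ι ≫ pullback.snd f g) ω' (u := ⟨w, hwa⟩) hwu
    have := huniq a (ψ.1 ≫ (W a).ι) (by rw [Category.assoc]; exact ψ.2) (by
      rw [pt_comp, hψ]; exact hWU a hwa)
    show w = pt (q a)
    rw [← this, pt_comp, hψ]
    rfl
  · let q' : Spec (CommRingCat.of Ω) ⟶ (W a).toScheme := IsOpenImmersion.lift (W a).ι (q a) (by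
      rw [range_eq_pt, Scheme.Opens.range_ι, Set.singleton_subset_iff]; exact hv a)
    have hq' : q' ≫ (W a).ι = q a := IsOpenImmersion.lift_fac _ _ _
    let φ : Lifts ((W a).ι ≫ pullback.snd f g) ω' := ⟨q', by rw [← Category.assoc, hq', hq2]⟩
    have hu : ∀ ψ, ψ = φ := fun ψ => Subtype.ext <| by
      rw [← cancel_mono (W a).ι]
      change ψ.1 ≫ (W a).ι = q' ≫ (W a).ι
      rw [hq']
      exact huniq a _ (by rw [Category.assoc]; exact ψ.2) (by rw [pt_comp]; exact hWU a (pt ψ.1).2)
    have h := isPurelyInseparable_of_openImmersion (W a).ι (pullback.snd f g) (pt φ.1)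
      (isPurelyInseparable_of_unique _ ω' φ hu)
    have e : (W a).ι (pt φ.1) = pt (q a) := by rw [← pt_comp, hq']
    change (fun z : ↑(pullback f g) => letI := ((pullback.snd f g).residueFieldMap z).hom.toAlgebra
      IsPurelyInseparable ↑(V.residueField (pullback.snd f g z)) ↑((pullback f g).residueField z)) (pt (q a))
    rw [← e]
    exact h
  · rw [← pt_comp, hq1, pt_comp]
    exact hfin.mem_toFinset.1 a.2
  · intro w hwu hwT
    have hwX : w ∈ pullback.fst f g ⁻¹ᵁ X' := hT _ hwT
    obtain ⟨w', hw'⟩ : w ∈ Set.range j := by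
      obtain ⟨z, hz, -⟩ := Scheme.exists_preimage_of_isPullback
        (IsPullback.of_hasPullback f g) (pullback.fst f g w) (pullback.snd f g w)
        (by rw [← Scheme.Hom.comp_apply, pullback.condition, Scheme.Hom.comp_apply])
      have sq : IsPullback j (pullback.fst f' g) (pullback.fst f g) X'.ι := by
        refine IsPullback.of_right ?_ hj1 (IsPullback.of_hasPullback f g).flip
        rw [hj2]
        exact (IsPullback.of_hasPullback f' g).flip
      obtain ⟨w', hw', -⟩ := Scheme.exists_preimage_of_isPullback sq w ⟨_, hwX⟩ rfl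
      exact ⟨w', hw'⟩
    obtain ⟨r, hr⟩ := exists_lift_of_apply_eq (pullback.snd f' g) ω' (u := w') (by
      rw [← hj2, Scheme.Hom.comp_apply, hw', hwu])
    let φ : Lifts f' ω := ⟨r.1 ≫ pullback.fst f' g, by
      rw [Category.assoc, pullback.condition, ← Category.assoc, r.2, hω']⟩
    have hφ : φ ∈ hfin.toFinset := hfin.mem_toFinset.2 (by
      change X'.ι (pt (r.1 ≫ pullback.fst f' g)) ∈ T
      rw [pt_comp, hr, ← Scheme.Hom.comp_apply, ← hj1, Scheme.Hom.comp_apply, hw']
      exact hwT)
    refine ⟨⟨φ, hφ⟩, ?_⟩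
    have hrq : r.1 ≫ j = q ⟨φ, hφ⟩ := by
      apply pullback.hom_ext
      · rw [hq1, Category.assoc, hj1]
        exact (Category.assoc _ _ _).symm
      · rw [hq2, Category.assoc, hj2, r.2]
    rw [← hw', ← hr, ← pt_comp, hrq]
    exact hv _

end Groth.L20.Weight
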