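import Groth.Agent.L20.Weight.Props
import Groth.Agent.L23.AffineMor
import Mathlib.AlgebraicGeometry.Morphisms.LocalFlatDescent

/-!
# Weightings of separated morphisms near a fibre
-/

universe u

open CategoryTheory CategoryTheory.Limits AlgebraicGeometry TopologicalSpace

namespace Groth.L20.Weight

set_option linter.style.haveILetI false
set_option backward.isDefEq.respectTransparency.types false

variable {X Y T V : Scheme.{u}} {Ω : Type u} [Field Ω]

/-- An open piece finite over the base is closed in a separated scheme over it. -/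
theorem isClosed_of_isFinite (π : T ⟶ V) [IsSeparated π] (U : T.Opens) [IsFinite (U.ι ≫ π)] :
    IsClosed (U : Set T) := by
  haveI : IsFinite U.ι := IsFinite.of_comp U.ι π
  rw [← Scheme.Opens.range_ι]
  exact U.ι.isClosedMap.isClosed_range

/-- Universal closedness of a morphism covered by finitely many universally closed pieces. -/
theorem universallyClosed_of_cover (π : T ⟶ V) {ι : Type*} [Finite ι] (B : ι → T.Opens)
    (hcov : ∀ x, ∃ i, x ∈ B i) (hB : ∀ i, UniversallyClosed ((B i).ι ≫ π)) :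
    UniversallyClosed π := by
  refine ⟨fun {T' V'} i₁ i₂ π' hsq C hC => ?_⟩
  have key : π' '' C = ⋃ i, ((i₁ ⁻¹ᵁ B i).ι ≫ π') '' ((i₁ ⁻¹ᵁ B i).ι ⁻¹' C) := by
    ext v
    simp only [Set.mem_image, Set.mem_iUnion, Set.mem_preimage]
    constructor
    · rintro ⟨x, hx, rfl⟩
      obtain ⟨i, hi⟩ := hcov (i₁ x)
      exact ⟨i, ⟨x, hi⟩, hx, rfl⟩
    · rintro ⟨i, x, hx, rfl⟩
      exact ⟨_, hx, rfl⟩
  rw [key]
  refine isClosed_iUnion_of_finite fun i => ?_
  haveI := hB i
  have hsq' := (isPullback_morphismRestrict i₁ (B i)).paste_vert hsq.flip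
  haveI : UniversallyClosed ((i₁ ⁻¹ᵁ B i).ι ≫ π') :=
    MorphismProperty.of_isPullback (P := @UniversallyClosed) hsq' inferInstance
  exact ((i₁ ⁻¹ᵁ B i).ι ≫ π').isClosedMap _ (hC.preimage (i₁ ⁻¹ᵁ B i).ι.continuous)

/-- Near a point, a separated quasi-finite morphism with a positive weighting has finite pieces
carrying at least the fibre integral at the point; with equality only if they exhaust the fibres. -/
theorem exists_nbhd_sep (f : X ⟶ Y) [LocallyQuasiFinite f] [LocallyOfFiniteType f] [IsSeparated f]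
    (hfin : ∀ y : Y, (f ⁻¹' {y}).Finite) {w : X → ℤ} (hw : MoreMor.IsWeighting f w)
    (hpos : ∀ x, 0 < w x) (y : Y) :
    ∃ (V : Scheme.{u}) (_ : IsAffine V) (g : V ⟶ Y) (_ : Etale g) (N : V.Opens), y ∈ g '' (N : Set V) ∧
      (∀ v ∈ N, MoreMor.fibreIntegral f w y ≤ MoreMor.fibreIntegral f w (g v)) ∧
      ((∀ v ∈ N, MoreMor.fibreIntegral f w (g v) = MoreMor.fibreIntegral f w y) →
        IsFinite (pullback.snd f g ∣_ N)) := by
  classical
  obtain ⟨Ω, _, _, ω₀, hω₀⟩ := exists_geomPoint y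
  haveI := finite_lifts f ω₀ (hfin _)
  haveI := Fintype.ofFinite (Lifts f ω₀)
  obtain ⟨V, _, g, _, ω, hω, hP⟩ := exists_pieces f ω₀ (fun _ => ⊤) (fun _ => trivial) Finset.univ
  have hP' : ∀ φ : Lifts f (ω ≫ g), Nonempty (Piece f g ω φ.1) := fun φ => by
    obtain ⟨P, -⟩ := hP ⟨φ.1, φ.2.trans hω⟩ (Finset.mem_univ _)
    exact ⟨P⟩
  let P := fun φ => (hP' φ).some
  haveI : Finite (Lifts f (ω ≫ g)) := hω.symm ▸ inferInstance
  haveI := Fintype.ofFinite (Lifts f (ω ≫ g))
  let π := pullback.snd f g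
  have hclosed : ∀ φ, IsClosed ((P φ).U : Set ↑(pullback f g)) := fun φ =>
    haveI := (P φ).finite
    isClosed_of_isFinite π (P φ).U
  have hdisj : ∀ φ φ' : Lifts f (ω ≫ g), ∃ N : V.Opens, pt ω ∈ N ∧
      ∀ x, π x ∈ N → x ∈ (P φ).U → x ∈ (P φ').U → φ = φ' := by
    intro φ φ'
    by_cases h : φ = φ'
    · exact ⟨⊤, trivial, fun _ _ _ _ => h⟩
    haveI := (P φ).finite
    have hne : ∀ x, π x = pt ω → x ∈ (P φ).U → x ∈ ((P φ').U : Set ↑(pullback f g))ᶜ := by
      intro x hx hxA hxB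
      obtain ⟨ψ, hψ, rfl⟩ := exists_mem_liftsIn π (P φ).U ω hx hxA
      have hψ' : ψ ∈ liftsIn π (P φ').U ω := hxB
      rw [(P φ).liftsIn_eq, Set.mem_singleton_iff] at hψ
      rw [(P φ').liftsIn_eq, Set.mem_singleton_iff, hψ] at hψ'
      exact h ((liftsPullbackEquiv (IsPullback.of_hasPullback f g) ω).symm.injective hψ')
    obtain ⟨N, hN, hN'⟩ := exists_nbhd_subset π (P φ).U ((P φ').U : Set ↑(pullback f g))ᶜ
      (hclosed φ').isOpen_compl (pt ω) hne
    exact ⟨N, hN, fun x hx h1 h2 => absurd h2 (hN' x hx h1)⟩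
  choose N₁ hN₁ hN₁' using hdisj
  have hloc : ∀ φ, ∃ N : V.Opens, pt ω ∈ N ∧ ∀ v ∈ N,
      MoreMor.fibreIntegral ((P φ).U.ι ≫ π) (fun u => w (pullback.fst f g ((P φ).U.ι u))) v =
        w (pt φ.1) := fun φ => (P φ).exists_nbhd hw
  choose N₂ hN₂ hN₂' using hloc
  let N : V.Opens :=
    (Finset.univ.inf fun q : Lifts f (ω ≫ g) × Lifts f (ω ≫ g) => N₁ q.1 q.2) ⊓ Finset.univ.inf N₂
  have hy : g (pt ω) = y := by rw [← pt_comp, hω, hω₀]
  -- the identity over `N`
  have hId : ∀ v ∈ N, ∃ (Ω' : Type u) (_ : Field Ω') (_ : IsAlgClosed Ω')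
      (ωv : Spec (CommRingCat.of Ω') ⟶ V) (_ : pt ωv = v) (_ : Finite (Lifts π ωv)),
      MoreMor.fibreIntegral f w (g v) = MoreMor.fibreIntegral f w y +
        ∑ᶠ ψ ∈ (⋃ φ, liftsIn π (P φ).U ωv)ᶜ, w (pullback.fst f g (pt ψ.1)) := by
    intro v hv
    obtain ⟨Ω', _, _, ωv, hωv⟩ := exists_geomPoint v
    haveI : Finite (Lifts f (ωv ≫ g)) := finite_lifts f _ (hfin _)
    haveI : Finite (Lifts π ωv) :=
      Finite.of_equiv _ (liftsPullbackEquiv (IsPullback.of_hasPullback f g) ωv).symm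
    refine ⟨Ω', _, inferInstance, ωv, hωv, inferInstance, ?_⟩
    let F : Lifts π ωv → ℤ := fun ψ => w (pullback.fst f g (pt ψ.1))
    have h1 : MoreMor.fibreIntegral f w (g v) = ∑ᶠ ψ, F ψ := by
      rw [fibreIntegral_eq f w (ωv ≫ g) (hfin _) (by rw [pt_comp, hωv])]
      refine (finsum_eq_of_bijective _
        (liftsPullbackEquiv (IsPullback.of_hasPullback f g) ωv).bijective fun ψ => ?_).symm
      change _ = w (pt (ψ.1 ≫ pullback.fst f g))
      rw [pt_comp]
    have hd : Pairwise (Function.onFun Disjoint fun φ => liftsIn π (P φ).U ωv) := fun φ φ' hne =>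
      Set.disjoint_left.mpr fun ψ h1 h2 => hne (hN₁' φ φ' _
        (by
          rw [ψ.pt_eq, hωv]
          exact (Finset.inf_le (f := fun q : Lifts f (ω ≫ g) × Lifts f (ω ≫ g) => N₁ q.1 q.2)
            (Finset.mem_univ (φ, φ'))) hv.1) h1 h2)
    rw [h1, ← finsum_mem_univ, ← Set.union_compl_self (⋃ φ, liftsIn π (P φ).U ωv),
      finsum_mem_union disjoint_compl_right (Set.toFinite _) (Set.toFinite _),
      finsum_mem_iUnion hd fun φ => Set.toFinite _, finsum_eq_sum_of_fintype]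
    congr 1
    rw [fibreIntegral_eq f w (ω ≫ g) (hfin _) (by rw [pt_comp, hy]), finsum_eq_sum_of_fintype]
    refine Finset.sum_congr rfl fun φ _ => ?_
    haveI := (P φ).finite
    exact (fibreIntegral_open π (P φ).U (fun z => w (pullback.fst f g z)) ωv hωv).symm.trans
      (hN₂' φ v ((Finset.inf_le (f := N₂) (Finset.mem_univ φ)) hv.2))
  refine ⟨V, inferInstance, g, inferInstance, N,
    ⟨pt ω, ⟨mem_finset_inf fun q _ => hN₁ q.1 q.2, mem_finset_inf fun φ _ => hN₂ φ⟩, hy⟩,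
    fun v hv => ?_, fun heq => ?_⟩
  · obtain ⟨Ω', _, _, ωv, hωv, _, h⟩ := hId v hv
    rw [h, le_add_iff_nonneg_right]
    exact finsum_nonneg fun ψ => finsum_nonneg fun _ => (hpos _).le
  -- the pieces cover the preimage
  have hcov : ∀ x, π x ∈ N → ∃ φ, x ∈ (P φ).U := by
    intro x hx
    obtain ⟨Ω', _, _, ωv, hωv, _, h⟩ := hId _ hx
    obtain ⟨ψ, hψ⟩ := exists_lift_of_apply_eq π ωv (u := x) hωv.symm
    by_contra hne
    push Not at hne
    have hψ' : ψ ∈ (⋃ φ, liftsIn π (P φ).U ωv)ᶜ := by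
      simp only [Set.mem_compl_iff, Set.mem_iUnion, not_exists]
      intro φ hφ
      exact hne φ (hψ ▸ hφ)
    have := le_finsum_mem (Set.toFinite _) (fun ψ : Lifts π ωv => w (pullback.fst f g (pt ψ.1)))
      (fun _ => hpos _) hψ'
    have h' := heq _ hx
    rw [h, add_eq_left] at h'
    rw [h'] at this
    exact absurd (hpos _) (not_lt.mpr this)
  haveI : UniversallyClosed (π ∣_ N) := by
    refine universallyClosed_of_cover (π ∣_ N) (fun φ => (π ⁻¹ᵁ N).ι ⁻¹ᵁ (P φ).U)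
      (fun x => hcov _ x.2) fun φ => ?_
    haveI := (P φ).finite
    haveI : IsFinite (((π ⁻¹ᵁ N).ι ⁻¹ᵁ (P φ).U).ι ≫ π ∣_ N) :=
      MorphismProperty.of_isPullback (P := @IsFinite)
        ((isPullback_morphismRestrict (π ⁻¹ᵁ N).ι (P φ).U).paste_vert
          (isPullback_morphismRestrict π N).flip) (P φ).finite
    infer_instance
  haveI : IsProper (π ∣_ N) := { }
  exact IsFinite.of_isProper_of_locallyQuasiFinite _

end Groth.L20.Weight
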