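import Groth.Agent.L20.Weight.SplitAlg
import Groth.Agent.L20.Weight.Lifts
import Mathlib.AlgebraicGeometry.ZariskisMainTheorem

/-!
# Étale neighbourhoods splitting geometric fibres of locally quasi-finite morphisms
-/

universe u

open CategoryTheory CategoryTheory.Limits AlgebraicGeometry TensorProduct

namespace Groth.L20.Weight

set_option linter.style.haveILetI false
set_option backward.isDefEq.respectTransparency.types false

variable {X Y : Scheme.{u}} {Ω : Type u} [Field Ω]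

/-- A finite piece of a base change whose only geometric point over `ω'` lies over `φ`. -/
structure Piece (f : X ⟶ Y) {V : Scheme.{u}} (g : V ⟶ Y) (ω' : Spec (CommRingCat.of Ω) ⟶ V)
    (φ : Spec (CommRingCat.of Ω) ⟶ X) where
  U : (pullback f g).Opens
  finite : IsFinite (U.ι ≫ pullback.snd f g)
  φU : Lifts (U.ι ≫ pullback.snd f g) ω'
  hφU : φU.1 ≫ U.ι ≫ pullback.fst f g = φ
  unique : ∀ ψ, ψ = φU

set_option backward.isDefEq.respectTransparency false in
set_option maxHeartbeats 1600000 in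
/-- Étale locally on the base a geometric point lies in a finite piece as its only point. -/
theorem exists_piece [IsAlgClosed Ω] (f : X ⟶ Y) [LocallyQuasiFinite f] [LocallyOfFiniteType f]
    (ω : Spec (CommRingCat.of Ω) ⟶ Y) (φ : Lifts f ω) (O : X.Opens) (hO : pt φ.1 ∈ O) :
    ∃ (V : Scheme.{u}) (_ : IsAffine V) (g : V ⟶ Y) (_ : Etale g)
      (ω' : Spec (CommRingCat.of Ω) ⟶ V) (_ : ω' ≫ g = ω) (P : Piece f g ω' φ.1),
      P.U ≤ pullback.fst f g ⁻¹ᵁ O := by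
  obtain ⟨_, ⟨W, hW, rfl⟩, hωW, -⟩ :=
    Y.isBasis_affineOpens.exists_subset_of_mem_open (Set.mem_univ (pt ω)) isOpen_univ
  have hφW : pt φ.1 ∈ f ⁻¹ᵁ W ⊓ O := ⟨by change f (pt φ.1) ∈ W; rw [φ.pt_eq]; exact hωW, hO⟩
  obtain ⟨_, ⟨Z, hZ, rfl⟩, hφZ, hZle⟩ :=
    X.isBasis_affineOpens.exists_subset_of_mem_open hφW (f ⁻¹ᵁ W ⊓ O).2
  have hZW : Z ≤ f ⁻¹ᵁ W := fun z hz => (hZle hz).1
  have hZO : Z ≤ O := fun z hz => (hZle hz).2
  have hr₁ : Set.range ω ⊆ Set.range hW.fromSpec := by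
    rw [range_eq_pt, hW.range_fromSpec, Set.singleton_subset_iff]; exact hωW
  have hr₂ : Set.range φ.1 ⊆ Set.range hZ.fromSpec := by
    rw [range_eq_pt, hZ.range_fromSpec, Set.singleton_subset_iff]; exact hφZ
  obtain ⟨aR, haR⟩ := Spec.map_surjective (IsOpenImmersion.lift hW.fromSpec ω hr₁)
  obtain ⟨bS, hbS⟩ := Spec.map_surjective (IsOpenImmersion.lift hZ.fromSpec φ.1 hr₂)
  have haR' : Spec.map aR ≫ hW.fromSpec = ω := by rw [haR, IsOpenImmersion.lift_fac]
  have hbS' : Spec.map bS ≫ hZ.fromSpec = φ.1 := by rw [hbS, IsOpenImmersion.lift_fac]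
  have hab : f.appLE W Z hZW ≫ bS = aR := by
    apply Spec.map_injective
    rw [← cancel_mono hW.fromSpec, haR', Spec.map_comp, Category.assoc,
      IsAffineOpen.SpecMap_appLE_fromSpec f hW hZ hZW, ← Category.assoc, hbS', φ.2]
  letI iRS := (f.appLE W Z hZW).hom.toAlgebra
  haveI : Algebra.FiniteType Γ(Y, W) Γ(X, Z) := f.finiteType_appLE hW hZ hZW
  haveI : Algebra.QuasiFinite Γ(Y, W) Γ(X, Z) :=
    RingHom.quasiFinite_algebraMap.mp
      (HasRingHomProperty.appLE @LocallyQuasiFinite f inferInstance ⟨W, hW⟩ ⟨Z, hZ⟩ hZW)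
  letI : Algebra Γ(Y, W) Ω := aR.hom.toAlgebra
  let φS : Γ(X, Z) →ₐ[Γ(Y, W)] Ω :=
    { toRingHom := bS.hom, commutes' := fun r => congr($hab r) }
  haveI : (RingHom.ker φS).IsPrime := RingHom.ker_isPrime _
  obtain ⟨R', _, _, _, χ, e, hie, hfin, hφe, huniq⟩ := exists_etale_idem_single φS
  let θ : Γ(Y, W) ⟶ CommRingCat.of R' := CommRingCat.ofHom (algebraMap Γ(Y, W) R')
  haveI : Etale (Spec.map θ) :=
    HasRingHomProperty.Spec_iff.mpr (RingHom.etale_algebraMap.mpr inferInstance)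
  let g : Spec (CommRingCat.of R') ⟶ Y := Spec.map θ ≫ hW.fromSpec
  let ω' : Spec (CommRingCat.of Ω) ⟶ Spec (CommRingCat.of R') :=
    Spec.map (CommRingCat.ofHom χ.toRingHom)
  have hχ : θ ≫ CommRingCat.ofHom χ.toRingHom = aR := CommRingCat.hom_ext (RingHom.ext χ.commutes)
  have hω' : ω' ≫ g = ω := by
    simp only [ω', g]
    rw [← Category.assoc, ← Spec.map_comp, hχ, haR']
  let e₁ : Spec (.of (R' ⊗[Γ(Y, W)] Γ(X, Z))) ≅
      pullback (Spec.map (f.appLE W Z hZW)) (Spec.map θ) :=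
    (pullbackSpecIso _ _ _).symm ≪≫ pullbackSymmetry _ _
  let g₀ : Spec (.of (R' ⊗[Γ(Y, W)] Γ(X, Z))) ⟶ pullback f g :=
    e₁.hom ≫ pullback.map _ _ _ _ hZ.fromSpec (𝟙 _) hW.fromSpec
      (IsAffineOpen.SpecMap_appLE_fromSpec ..) (by simp [g])
  have hg₁ : g₀ ≫ pullback.fst f g =
      Spec.map (CommRingCat.ofHom (Algebra.TensorProduct.includeRight :
        Γ(X, Z) →ₐ[Γ(Y, W)] R' ⊗[Γ(Y, W)] Γ(X, Z)).toRingHom) ≫ hZ.fromSpec := by
    simp only [g₀, e₁, Category.assoc, pullback.lift_fst, Iso.trans_hom, Iso.symm_hom]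
    refine (congrArg (_ ≫ ·) (pullbackSymmetry_hom_comp_fst_assoc _ _ _)).trans ?_
    rw [← Category.assoc]
    exact congrArg (· ≫ hZ.fromSpec) (pullbackSpecIso_inv_snd ..)
  have hg₂ : g₀ ≫ pullback.snd f g =
      Spec.map (CommRingCat.ofHom (algebraMap R' (R' ⊗[Γ(Y, W)] Γ(X, Z)))) := by
    simp only [g₀, e₁, Category.assoc, pullback.lift_snd, Iso.trans_hom, Iso.symm_hom, Category.comp_id]
    refine (congrArg (_ ≫ ·) (pullbackSymmetry_hom_comp_snd _ _)).trans ?_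
    exact pullbackSpecIso_inv_fst' ..
  haveI : IsOpenImmersion g₀ := inferInstanceAs (IsOpenImmersion (_ ≫ _))
  haveI : IsOpenImmersion (Spec.map (CommRingCat.ofHom
      (algebraMap (R' ⊗[Γ(Y, W)] Γ(X, Z)) (Localization.Away e)))) :=
    IsOpenImmersion.of_isLocalization e
  let ι : Spec (.of (Localization.Away e)) ⟶ pullback f g :=
    Spec.map (CommRingCat.ofHom (algebraMap (R' ⊗[Γ(Y, W)] Γ(X, Z)) (Localization.Away e))) ≫ g₀
  haveI : IsOpenImmersion ι := inferInstanceAs (IsOpenImmersion (_ ≫ _))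
  let U := ι.opensRange
  have hU₁ : ι.isoOpensRange.hom ≫ U.ι ≫ pullback.snd f g = ι ≫ pullback.snd f g :=
    Scheme.Hom.isoOpensRange_hom_ι_assoc ι _
  have hU₂ : ι.isoOpensRange.hom ≫ U.ι ≫ pullback.fst f g = ι ≫ pullback.fst f g :=
    Scheme.Hom.isoOpensRange_hom_ι_assoc ι _
  have hιsnd : ι ≫ pullback.snd f g =
      Spec.map (CommRingCat.ofHom (algebraMap R' (Localization.Away e))) := by
    simp only [ι, Category.assoc, hg₂, ← Spec.map_comp, ← CommRingCat.ofHom_comp]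
    rfl
  have hUfin : IsFinite (U.ι ≫ pullback.snd f g) := by
    rw [← MorphismProperty.cancel_left_of_respectsIso @IsFinite ι.isoOpensRange.hom,
      Scheme.Hom.isoOpensRange_hom_ι_assoc, hιsnd, IsFinite.SpecMap_iff, CommRingCat.hom_ofHom,
      RingHom.finite_algebraMap]
    exact hfin
  -- the point
  let κ₀ : Localization.Away e →+* Ω :=
    IsLocalization.Away.lift e (g := (ev χ φS).toRingHom) (Ne.isUnit hφe)
  have hκ₀ : κ₀.comp (algebraMap (R' ⊗[Γ(Y, W)] Γ(X, Z)) (Localization.Away e)) =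
      (ev χ φS).toRingHom :=
    RingHom.ext fun x => IsLocalization.Away.lift_eq e (g := (ev χ φS).toRingHom) (Ne.isUnit hφe) x
  let p₀ : Spec (CommRingCat.of Ω) ⟶ (U : Scheme.{u}) :=
    Spec.map (CommRingCat.ofHom κ₀) ≫ ι.isoOpensRange.hom
  have hp₀ : p₀ ≫ U.ι ≫ pullback.snd f g = ω' := by
    simp only [p₀, Category.assoc, hU₁, hιsnd, ω', ← Spec.map_comp,
      ← CommRingCat.ofHom_comp]
    congr 2
    rw [IsScalarTower.algebraMap_eq R' (R' ⊗[Γ(Y, W)] Γ(X, Z)) (Localization.Away e),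
      ← RingHom.comp_assoc, hκ₀]
    ext x
    simp [ev]
  have hp₁ : p₀ ≫ U.ι ≫ pullback.fst f g = φ.1 := by
    simp only [p₀, Category.assoc, hU₂]
    simp only [ι, Category.assoc, hg₁]
    rw [← Spec.map_comp_assoc, ← Spec.map_comp_assoc, ← hbS']
    congr 2
    apply CommRingCat.hom_ext
    ext s
    change κ₀.comp (algebraMap _ _) _ = bS s
    rw [hκ₀]
    exact ev_includeRight χ φS s
  refine ⟨_, inferInstance, g, inferInstance, ω', hω', ⟨U, hUfin, ⟨p₀, hp₀⟩, hp₁, ?_⟩, ?_⟩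
  · rintro ⟨ψ, hψ⟩
    obtain ⟨κ, hκ⟩ := Spec.map_surjective (ψ ≫ ι.isoOpensRange.inv)
    have hψι : ψ = Spec.map κ ≫ ι.isoOpensRange.hom := by simp [hκ]
    have hleft : ∀ r : R', κ (algebraMap R' (Localization.Away e) r) = χ r := by
      intro r
      have h1 : Spec.map κ ≫ ι ≫ pullback.snd f g = ω' := by
        have h2 := hψ
        rw [hψι, Category.assoc, hU₁] at h2
        exact h2
      rw [hιsnd, ← Spec.map_comp] at h1
      exact congr($(Spec.map_injective h1) r)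
    let θ' : Γ(X, Z) →ₐ[Γ(Y, W)] Ω :=
      { toRingHom := (κ.hom.comp (algebraMap (R' ⊗[Γ(Y, W)] Γ(X, Z)) (Localization.Away e))).comp
          Algebra.TensorProduct.includeRight.toRingHom
        commutes' := fun r => by
          change κ (algebraMap _ (Localization.Away e)
            ((Algebra.TensorProduct.includeRight : Γ(X, Z) →ₐ[Γ(Y, W)] R' ⊗[Γ(Y, W)] Γ(X, Z)) _)) = _
          rw [AlgHom.commutes, IsScalarTower.algebraMap_apply Γ(Y, W) R' (R' ⊗[Γ(Y, W)] Γ(X, Z)),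
            ← IsScalarTower.algebraMap_apply R', hleft, AlgHom.commutes] }
    have hevκ : ∀ x, κ (algebraMap (R' ⊗[Γ(Y, W)] Γ(X, Z)) (Localization.Away e) x) = ev χ θ' x := by
      intro x
      induction x using TensorProduct.induction_on with
      | zero => simp
      | add a b ha hb => simp [map_add, ha, hb]
      | tmul a s =>
        have h3 : ev χ θ' (a ⊗ₜ[Γ(Y, W)] s) = χ a * θ' s := Algebra.TensorProduct.lift_tmul _ _ _ a s
        rw [h3, show a ⊗ₜ[Γ(Y, W)] s = algebraMap R' (R' ⊗[Γ(Y, W)] Γ(X, Z)) a * (1 ⊗ₜ s) by simp,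
          map_mul, map_mul, ← IsScalarTower.algebraMap_apply R', hleft]
        rfl
    have hθ' : θ' = φS := huniq θ' (by
      rw [← hevκ]
      exact ((IsLocalization.Away.algebraMap_isUnit (S := Localization.Away e) e).map κ.hom).ne_zero)
    have hκeq : κ = CommRingCat.ofHom κ₀ := by
      apply CommRingCat.hom_ext
      apply IsLocalization.ringHom_ext (Submonoid.powers e)
      rw [CommRingCat.hom_ofHom, hκ₀]
      refine RingHom.ext fun x => ?_
      exact (hevκ x).trans (by rw [hθ']; rfl)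
    exact Subtype.ext (show ψ = p₀ by rw [hψι, hκeq])
  · rintro _ ⟨z, rfl⟩
    change pullback.fst f g (ι z) ∈ O
    rw [← Scheme.Hom.comp_apply]
    simp only [ι, Category.assoc, hg₁, Scheme.Hom.comp_apply]
    apply hZO
    rw [← SetLike.mem_coe, ← hZ.range_fromSpec]
    exact ⟨_, rfl⟩

variable {f : X ⟶ Y} {V : Scheme.{u}} {g : V ⟶ Y} {ω' : Spec (CommRingCat.of Ω) ⟶ V}
  {φ : Spec (CommRingCat.of Ω) ⟶ X}

/-- The map of base changes. -/
noncomputable abbrev bcMap (f : X ⟶ Y) (g : V ⟶ Y) {V' : Scheme.{u}} (h : V' ⟶ V) :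
    pullback f (h ≫ g) ⟶ pullback f g :=
  pullback.map f (h ≫ g) f g (𝟙 X) h (𝟙 Y) (by simp) (by simp)

theorem bcMap_fst (f : X ⟶ Y) (g : V ⟶ Y) {V' : Scheme.{u}} (h : V' ⟶ V) :
    bcMap f g h ≫ pullback.fst f g = pullback.fst f (h ≫ g) :=
  (pullback.lift_fst _ _ _).trans (Category.comp_id _)

theorem bcMap_preimage (f : X ⟶ Y) (g : V ⟶ Y) {V' : Scheme.{u}} (h : V' ⟶ V) (O : X.Opens) :
    bcMap f g h ⁻¹ᵁ (pullback.fst f g ⁻¹ᵁ O) = pullback.fst f (h ≫ g) ⁻¹ᵁ O := by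
  rw [← Scheme.Hom.comp_preimage, bcMap_fst]

theorem isPullback_bcMap (f : X ⟶ Y) (g : V ⟶ Y) {V' : Scheme.{u}} (h : V' ⟶ V) :
    IsPullback (bcMap f g h) (pullback.snd f (h ≫ g)) (pullback.snd f g) h :=
  IsPullback.of_right (h₁₂ := pullback.fst f g) (v₁₃ := f) (h₂₂ := g)
    (by rw [bcMap_fst]; exact IsPullback.of_hasPullback f (h ≫ g))
    (pullback.lift_snd _ _ _) (IsPullback.of_hasPullback f g)

theorem isPullback_bcMap_restrict (f : X ⟶ Y) (g : V ⟶ Y) {V' : Scheme.{u}} (h : V' ⟶ V)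
    (U : (pullback f g).Opens) :
    IsPullback (bcMap f g h ∣_ U) ((bcMap f g h ⁻¹ᵁ U).ι ≫ pullback.snd f (h ≫ g))
      (U.ι ≫ pullback.snd f g) h :=
  (isPullback_morphismRestrict (bcMap f g h) U).paste_vert (isPullback_bcMap f g h)

/-- Pieces pull back. -/
noncomputable def Piece.baseChange (P : Piece f g ω' φ) {V' : Scheme.{u}} (h : V' ⟶ V)
    (ω'' : Spec (CommRingCat.of Ω) ⟶ V') (hω : ω'' ≫ h = ω') : Piece f (h ≫ g) ω'' φ where
  U := bcMap f g h ⁻¹ᵁ P.U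
  finite := MorphismProperty.of_isPullback (P := @IsFinite)
    (isPullback_bcMap_restrict f g h P.U) P.finite
  φU := (liftsPullbackEquiv (isPullback_bcMap_restrict f g h P.U) ω'').symm
    ⟨P.φU.1, hω.symm ▸ P.φU.2⟩
  hφU := by
    have h1 := (isPullback_bcMap_restrict f g h P.U).lift_fst P.φU.1 ω'' (hω.symm ▸ P.φU.2)
    rw [← bcMap_fst f g h, ← Category.assoc (bcMap f g h ⁻¹ᵁ P.U).ι, ← morphismRestrict_ι,
      Category.assoc, ← Category.assoc]
    refine (congrArg (· ≫ P.U.ι ≫ pullback.fst f g) ?_).trans P.hφU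
    exact h1
  unique ψ := by
    apply (liftsPullbackEquiv (isPullback_bcMap_restrict f g h P.U) ω'').injective
    rw [Equiv.apply_symm_apply]
    have := congrArg Subtype.val
      (P.unique ⟨(liftsPullbackEquiv (isPullback_bcMap_restrict f g h P.U) ω'' ψ).1,
        (liftsPullbackEquiv (isPullback_bcMap_restrict f g h P.U) ω'' ψ).2.trans hω⟩)
    exact Subtype.ext this

theorem Piece.baseChange_U (P : Piece f g ω' φ) {V' : Scheme.{u}} (h : V' ⟶ V)
    (ω'' : Spec (CommRingCat.of Ω) ⟶ V') (hω : ω'' ≫ h = ω') :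
    (P.baseChange h ω'' hω).U = bcMap f g h ⁻¹ᵁ P.U := rfl

set_option maxHeartbeats 1000000 in
/-- A common étale neighbourhood for finitely many geometric points. -/
theorem exists_pieces [IsAlgClosed Ω] (f : X ⟶ Y) [LocallyQuasiFinite f] [LocallyOfFiniteType f]
    (ω : Spec (CommRingCat.of Ω) ⟶ Y) (O : Lifts f ω → X.Opens) (hO : ∀ φ, pt φ.1 ∈ O φ)
    (s : Finset (Lifts f ω)) :
    ∃ (V : Scheme.{u}) (_ : IsAffine V) (g : V ⟶ Y) (_ : Etale g)
      (ω' : Spec (CommRingCat.of Ω) ⟶ V) (_ : ω' ≫ g = ω),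
      ∀ φ ∈ s, ∃ P : Piece f g ω' φ.1, P.U ≤ pullback.fst f g ⁻¹ᵁ O φ := by
  classical
  induction s using Finset.induction_on with
  | empty =>
    obtain ⟨W, hW, hωW, -⟩ := exists_isAffineOpen_mem_and_subset (x := pt ω) (U := ⊤) trivial
    refine ⟨W.toScheme, hW, W.ι, inferInstance,
      IsOpenImmersion.lift W.ι ω ?_, IsOpenImmersion.lift_fac _ _ _, by simp⟩
    rw [range_eq_pt, Scheme.Opens.range_ι, Set.singleton_subset_iff]
    exact hωW
  | insert φ₀ s hφ₀ ih =>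
    obtain ⟨V₁, _, g₁, _, ω₁, hω₁, hP₁⟩ := ih
    obtain ⟨V₂, _, g₂, _, ω₂, hω₂, P₂, hP₂⟩ := exists_piece f ω φ₀ (O φ₀) (hO φ₀)
    let ω₃ : Spec (CommRingCat.of Ω) ⟶ pullback g₁ g₂ := pullback.lift ω₁ ω₂ (hω₁.trans hω₂.symm)
    obtain ⟨W, hW, hωW, -⟩ := exists_isAffineOpen_mem_and_subset (x := pt ω₃) (U := ⊤) trivial
    let ω₄ : Spec (CommRingCat.of Ω) ⟶ W.toScheme := IsOpenImmersion.lift W.ι ω₃ (by
      rw [range_eq_pt, Scheme.Opens.range_ι, Set.singleton_subset_iff]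
      exact hωW)
    have hω₄ : ω₄ ≫ W.ι = ω₃ := IsOpenImmersion.lift_fac _ _ _
    haveI : Etale g₂ := inferInstance
    refine ⟨W.toScheme, hW, (W.ι ≫ pullback.fst g₁ g₂) ≫ g₁, inferInstance, ω₄, ?_, ?_⟩
    · simp only [Category.assoc, reassoc_of% hω₄, ω₃, pullback.lift_fst_assoc, hω₁]
    intro φ hφ
    rcases Finset.mem_insert.mp hφ with rfl | hφ
    · have e : (W.ι ≫ pullback.fst g₁ g₂) ≫ g₁ = (W.ι ≫ pullback.snd g₁ g₂) ≫ g₂ := by
        simp [pullback.condition]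
      rw [e]
      exact ⟨P₂.baseChange (W.ι ≫ pullback.snd g₁ g₂) ω₄
        (by rw [reassoc_of% hω₄, pullback.lift_snd]),
        (bcMap_preimage f g₂ _ (O φ)) ▸ Scheme.Hom.preimage_mono _ hP₂⟩
    · obtain ⟨P, hP⟩ := hP₁ φ hφ
      exact ⟨P.baseChange (W.ι ≫ pullback.fst g₁ g₂) ω₄
        (by rw [reassoc_of% hω₄, pullback.lift_fst]),
        (bcMap_preimage f g₁ _ (O φ)) ▸ Scheme.Hom.preimage_mono _ hP⟩

end Groth.L20.Weight
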