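import Groth.Agent.L20.Weight.Split
import Mathlib.Topology.LocallyConstant.Basic

/-!
# Weightings stay locally constant after an arbitrary base change
-/

universe u

open CategoryTheory CategoryTheory.Limits AlgebraicGeometry TopologicalSpace

namespace Groth.L20.Weight

set_option linter.style.haveILetI false
set_option backward.isDefEq.respectTransparency.types false

variable {X Y T V : Scheme.{u}} {Ω : Type u} [Field Ω]

/-- The lifts with image in an open. -/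
def liftsIn (π : T ⟶ V) (U : T.Opens) (ω : Spec (CommRingCat.of Ω) ⟶ V) : Set (Lifts π ω) :=
  {ψ | pt ψ.1 ∈ U}

/-- Lifts with image in an open are lifts along the restriction. -/
noncomputable def liftsOpenEquiv (π : T ⟶ V) (U : T.Opens) (ω : Spec (CommRingCat.of Ω) ⟶ V) :
    Lifts (U.ι ≫ π) ω ≃ liftsIn π U ω where
  toFun φ := ⟨⟨φ.1 ≫ U.ι, by rw [Category.assoc]; exact φ.2⟩, by
    change pt (φ.1 ≫ U.ι) ∈ U
    rw [pt_comp]
    exact (pt φ.1).2⟩
  invFun ψ := ⟨IsOpenImmersion.lift U.ι ψ.1.1 (by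
    rw [range_eq_pt, Scheme.Opens.range_ι, Set.singleton_subset_iff]; exact ψ.2),
    by rw [← Category.assoc, IsOpenImmersion.lift_fac]; exact ψ.1.2⟩
  left_inv φ := Subtype.ext (by rw [← cancel_mono U.ι]; exact IsOpenImmersion.lift_fac _ _ _)
  right_inv ψ := Subtype.ext (Subtype.ext (IsOpenImmersion.lift_fac _ _ _))

theorem finite_fibre_of_isFinite (π : T ⟶ V) [IsFinite π] (v : V) : (π ⁻¹' {v}).Finite :=
  π.finite_preimage_singleton v

theorem finite_liftsIn [IsAlgClosed Ω] (π : T ⟶ V) (U : T.Opens) [IsFinite (U.ι ≫ π)]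
    (ω : Spec (CommRingCat.of Ω) ⟶ V) : (liftsIn π U ω).Finite := by
  haveI := finite_lifts (U.ι ≫ π) ω (finite_fibre_of_isFinite _ _)
  exact Set.finite_coe_iff.mp (Finite.of_equiv _ (liftsOpenEquiv π U ω))

theorem fibreIntegral_open [IsAlgClosed Ω] (π : T ⟶ V) (U : T.Opens) [IsFinite (U.ι ≫ π)]
    (w : T → ℤ) (ω : Spec (CommRingCat.of Ω) ⟶ V) {v : V} (hv : pt ω = v) :
    MoreMor.fibreIntegral (U.ι ≫ π) (fun u => w (U.ι u)) v =
      ∑ᶠ ψ ∈ liftsIn π U ω, w (pt ψ.1) := by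
  rw [fibreIntegral_eq _ _ ω (finite_fibre_of_isFinite _ _) hv, ← finsum_subtype_eq_finsum_cond]
  refine finsum_eq_of_bijective _ (liftsOpenEquiv π U ω).bijective fun φ => ?_
  change w (U.ι (pt φ.1)) = w (pt (φ.1 ≫ U.ι))
  rw [pt_comp]

/-- Every point of an open finite over the base carries a lift. -/
theorem exists_mem_liftsIn [IsAlgClosed Ω] (π : T ⟶ V) (U : T.Opens) [IsFinite (U.ι ≫ π)]
    (ω : Spec (CommRingCat.of Ω) ⟶ V) {x : T} (hx : π x = pt ω) (hxU : x ∈ U) :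
    ∃ ψ ∈ liftsIn π U ω, pt ψ.1 = x := by
  obtain ⟨φ, hφ⟩ := exists_lift_of_apply_eq (U.ι ≫ π) ω (u := ⟨x, hxU⟩) hx
  refine ⟨(liftsOpenEquiv π U ω φ).1, (liftsOpenEquiv π U ω φ).2, ?_⟩
  change pt (φ.1 ≫ U.ι) = x
  rw [pt_comp, hφ]
  rfl

theorem mem_finset_inf {α ι : Type*} [TopologicalSpace α] {s : Finset ι} {f : ι → Opens α} {x : α}
    (h : ∀ i ∈ s, x ∈ f i) : x ∈ s.inf f := by
  classical
  induction s using Finset.induction_on with
  | empty => trivial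
  | insert a s _ ih =>
    rw [Finset.inf_insert]
    exact ⟨h a (Finset.mem_insert_self a s), ih fun i hi => h i (Finset.mem_insert_of_mem hi)⟩

/-- An open contains a finite piece near a fibre if it contains the fibre. -/
theorem exists_nbhd_subset (π : T ⟶ V) (A : T.Opens) [IsFinite (A.ι ≫ π)] (B : Set T)
    (hB : IsOpen B) (v₀ : V) (h : ∀ x, π x = v₀ → x ∈ A → x ∈ B) :
    ∃ N : V.Opens, v₀ ∈ N ∧ ∀ x, π x ∈ N → x ∈ A → x ∈ B := by
  have hc : IsClosed ((A.ι ≫ π) '' (A.ι ⁻¹' B)ᶜ) :=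
    (A.ι ≫ π).isClosedMap _ ((hB.preimage A.ι.continuous).isClosed_compl)
  refine ⟨⟨_, hc.isOpen_compl⟩, ?_, fun x hx hxA => ?_⟩
  · rintro ⟨a, ha, hav⟩
    exact ha (h _ hav a.2)
  · by_contra hxB
    exact hx ⟨⟨x, hxA⟩, hxB, rfl⟩

/-- Near a fibre, a finite open is the disjoint union of the pieces around its geometric points. -/
theorem exists_nbhd_decomp [IsAlgClosed Ω] (π : T ⟶ V) (A : T.Opens) [IsFinite (A.ι ≫ π)]
    (ω : Spec (CommRingCat.of Ω) ⟶ V) {ι : Type*} [Finite ι] (B : ι → T.Opens)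
    (hB : ∀ i, IsFinite ((B i).ι ≫ π)) (p : ι → Lifts π ω) (hp : Function.Injective p)
    (hBp : ∀ i, liftsIn π (B i) ω = {p i}) (hA : liftsIn π A ω = Set.range p) :
    ∃ N : V.Opens, pt ω ∈ N ∧ (∀ x, π x ∈ N → x ∈ A → ∃ i, x ∈ B i) ∧
      (∀ i x, π x ∈ N → x ∈ B i → x ∈ A) ∧
      ∀ x, π x ∈ N → ∀ i j, x ∈ B i → x ∈ B j → i = j := by
  classical
  haveI := Fintype.ofFinite ι
  have hmem : ∀ i, pt (p i).1 ∈ B i := fun i =>
    show p i ∈ liftsIn π (B i) ω by rw [hBp i]; rfl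
  have hpA : ∀ i, pt (p i).1 ∈ A := fun i =>
    show p i ∈ liftsIn π A ω by rw [hA]; exact ⟨i, rfl⟩
  have hpts : ∀ i x, π x = pt ω → x ∈ B i → x = pt (p i).1 := fun i x hx hxB => by
    haveI := hB i
    obtain ⟨ψ, hψ, rfl⟩ := exists_mem_liftsIn π (B i) ω hx hxB
    rw [hBp i, Set.mem_singleton_iff] at hψ
    rw [hψ]
  obtain ⟨N₁, hN₁, hN₁'⟩ := exists_nbhd_subset π A (⋃ i, (B i : Set T))
    (isOpen_iUnion fun i => (B i).2) (pt ω) fun x hx hxA => by
      obtain ⟨ψ, hψ, rfl⟩ := exists_mem_liftsIn π A ω hx hxA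
      obtain ⟨i, rfl⟩ := hA ▸ hψ
      exact Set.mem_iUnion.mpr ⟨i, hmem i⟩
  have h2 : ∀ i, ∃ N : V.Opens, pt ω ∈ N ∧ ∀ x, π x ∈ N → x ∈ B i → x ∈ A := fun i =>
    haveI := hB i
    exists_nbhd_subset π (B i) (A : Set T) A.2 (pt ω) fun x hx hxB => by
      rw [hpts i x hx hxB]; exact hpA i
  choose N₂ hN₂ hN₂' using h2
  have h3 : ∀ i j, ∃ N : V.Opens, pt ω ∈ N ∧
      ∀ x, π x ∈ N → x ∈ A → x ∈ B i → x ∈ B j → i = j := by
    intro i j
    by_cases hij : i = j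
    · exact ⟨⊤, trivial, fun _ _ _ _ _ => hij⟩
    haveI := hB i; haveI := hB j
    -- the intersection is open and closed near the fibre in `A`
    let M := N₂ i ⊓ N₂ j
    haveI : IsFinite ((A.ι ≫ π) ∣_ M) :=
      MorphismProperty.of_isPullback (P := @IsFinite)
        (isPullback_morphismRestrict (A.ι ≫ π) M).flip inferInstance
    have hcl : ∀ k, M ≤ N₂ k →
        IsClosed ((((A.ι ≫ π) ⁻¹ᵁ M).ι ≫ A.ι) ⁻¹' (B k : Set T)) := by
      intro k hk
      haveI := hB k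
      haveI : IsFinite (((B k).ι ≫ π) ∣_ M) :=
        MorphismProperty.of_isPullback (P := @IsFinite)
          (isPullback_morphismRestrict ((B k).ι ≫ π) M).flip inferInstance
      let BM := ((B k).ι ≫ π) ⁻¹ᵁ M
      have hle : Set.range (BM.ι ≫ (B k).ι) ⊆ Set.range (((A.ι ≫ π) ⁻¹ᵁ M).ι ≫ A.ι) := by
        rintro _ ⟨b, rfl⟩
        have hb : π ((B k).ι (BM.ι b)) ∈ M := b.2
        exact ⟨⟨⟨_, hN₂' k _ (hk hb) (BM.ι b).2⟩, hb⟩, rfl⟩
      let c := IsOpenImmersion.lift (((A.ι ≫ π) ⁻¹ᵁ M).ι ≫ A.ι) (BM.ι ≫ (B k).ι) hle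
      have hc : c ≫ ((A.ι ≫ π) ∣_ M) = ((B k).ι ≫ π) ∣_ M := by
        rw [← cancel_mono M.ι, Category.assoc, morphismRestrict_ι, morphismRestrict_ι]
        simp only [← Category.assoc]
        congr 1
        simp only [Category.assoc]
        exact IsOpenImmersion.lift_fac _ _ _
      haveI : IsFinite (c ≫ ((A.ι ≫ π) ∣_ M)) := by rw [hc]; infer_instance
      haveI : IsFinite c := IsFinite.of_comp c ((A.ι ≫ π) ∣_ M)
      convert c.isClosedMap.isClosed_range using 1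
      ext a
      constructor
      · intro ha
        refine ⟨⟨⟨_, ha⟩, a.2⟩, (((A.ι ≫ π) ⁻¹ᵁ M).ι ≫ A.ι).isOpenEmbedding.injective ?_⟩
        rw [← Scheme.Hom.comp_apply c, IsOpenImmersion.lift_fac]
        rfl
      · rintro ⟨b, rfl⟩
        change (((A.ι ≫ π) ⁻¹ᵁ M).ι ≫ A.ι) (c b) ∈ B k
        rw [← Scheme.Hom.comp_apply c, IsOpenImmersion.lift_fac]
        exact (BM.ι b).2
    have hclosed := ((A.ι ≫ π) ∣_ M).isClosedMap _
      ((hcl i inf_le_left).inter (hcl j inf_le_right))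
    let N' : M.toScheme.Opens := ⟨_, hclosed.isOpen_compl⟩
    refine ⟨M.ι ''ᵁ N', ⟨⟨pt ω, hN₂ i, hN₂ j⟩, ?_, rfl⟩, ?_⟩
    · rintro ⟨a, ⟨hai, haj⟩, hav⟩
      have hv : π (A.ι (((A.ι ≫ π) ⁻¹ᵁ M).ι a)) = pt ω := by
        have h0 : (((A.ι ≫ π) ∣_ M) ≫ M.ι) a = pt ω := congrArg Subtype.val hav
        rw [morphismRestrict_ι] at h0
        exact h0
      have h5 := (hpts i _ hv hai).symm.trans (hpts j _ hv haj)
      have h4 : p i ∈ liftsIn π (B j) ω := by
        change pt (p i).1 ∈ B j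
        rw [h5]
        exact hmem j
      rw [hBp j, Set.mem_singleton_iff] at h4
      exact hij (hp h4)
    · rintro x ⟨v, hv, hvx⟩ hxA hi hj
      refine absurd ?_ hv
      refine ⟨⟨⟨x, hxA⟩, show π x ∈ M by rw [← hvx]; exact v.2⟩, ⟨hi, hj⟩, ?_⟩
      refine M.ι.isOpenEmbedding.injective (Eq.trans ?_ hvx.symm)
      rw [← Scheme.Hom.comp_apply, morphismRestrict_ι]
      rfl
  choose N₃ hN₃ hN₃' using h3
  let N : V.Opens := N₁ ⊓ (Finset.univ.inf N₂) ⊓ (Finset.univ.inf fun q : ι × ι => N₃ q.1 q.2)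
  have hN2 : ∀ i, N ≤ N₂ i := fun i =>
    (inf_le_left.trans inf_le_right).trans (Finset.inf_le (Finset.mem_univ i))
  have hN3 : ∀ i j, N ≤ N₃ i j := fun i j =>
    inf_le_right.trans (Finset.inf_le (f := fun q : ι × ι => N₃ q.1 q.2) (Finset.mem_univ (i, j)))
  refine ⟨N, ?_, fun x hx hxA => Set.mem_iUnion.mp (hN₁' x hx.1.1 hxA),
    fun i x hx => hN₂' i x (hN2 i hx), fun x hx i j hi hj =>
      hN₃' i j x (hN3 i j hx) (hN₂' i x (hN2 i hx) hi) hi hj⟩
  exact ⟨⟨hN₁, mem_finset_inf fun i _ => hN₂ i⟩, mem_finset_inf fun q _ => hN₃ q.1 q.2⟩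

/-- The sum over a finite open in a decomposition. -/
theorem finsum_liftsIn_eq_sum [IsAlgClosed Ω] (π : T ⟶ V) (A : T.Opens) {ι : Type*} [Fintype ι]
    (B : ι → T.Opens) (hB : ∀ i, IsFinite ((B i).ι ≫ π)) (w : T → ℤ)
    (ω : Spec (CommRingCat.of Ω) ⟶ V) (N : V.Opens) (hω : pt ω ∈ N)
    (h1 : ∀ x, π x ∈ N → x ∈ A → ∃ i, x ∈ B i) (h2 : ∀ i x, π x ∈ N → x ∈ B i → x ∈ A)
    (h3 : ∀ x, π x ∈ N → ∀ i j, x ∈ B i → x ∈ B j → i = j) :
    ∑ᶠ ψ ∈ liftsIn π A ω, w (pt ψ.1) = ∑ i, ∑ᶠ ψ ∈ liftsIn π (B i) ω, w (pt ψ.1) := by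
  have hN : ∀ ψ : Lifts π ω, π (pt ψ.1) ∈ N := fun ψ => by rw [ψ.pt_eq]; exact hω
  have heq : liftsIn π A ω = ⋃ i, liftsIn π (B i) ω := by
    ext ψ
    simp only [liftsIn, Set.mem_iUnion, Set.mem_ofPred_eq]
    exact ⟨h1 _ (hN ψ), fun ⟨i, hi⟩ => h2 i _ (hN ψ) hi⟩
  rw [heq, finsum_mem_iUnion, finsum_eq_sum_of_fintype]
  · intro i j hij
    exact Set.disjoint_left.mpr fun ψ hi hj => hij (h3 _ (hN ψ) i j hi hj)
  · intro i
    haveI := hB i
    exact finite_liftsIn π (B i) ω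

/-- The lift to a base change given by a geometric point. -/
noncomputable def bcLift (f : X ⟶ Y) (g : V ⟶ Y) (ω : Spec (CommRingCat.of Ω) ⟶ V)
    (φ : Lifts f (ω ≫ g)) : Lifts (pullback.snd f g) ω :=
  (liftsPullbackEquiv (IsPullback.of_hasPullback f g) ω).symm φ

theorem bcLift_fst (f : X ⟶ Y) (g : V ⟶ Y) (ω : Spec (CommRingCat.of Ω) ⟶ V)
    (φ : Lifts f (ω ≫ g)) : (bcLift f g ω φ).1 ≫ pullback.fst f g = φ.1 :=
  (IsPullback.of_hasPullback f g).lift_fst _ _ _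

theorem Piece.liftsIn_eq {f : X ⟶ Y} {g : V ⟶ Y} {ω : Spec (CommRingCat.of Ω) ⟶ V}
    {φ : Lifts f (ω ≫ g)} (P : Piece f g ω φ.1) :
    liftsIn (pullback.snd f g) P.U ω = {bcLift f g ω φ} := by
  have h0 : (liftsOpenEquiv (pullback.snd f g) P.U ω P.φU).1 = bcLift f g ω φ := by
    apply (liftsPullbackEquiv (IsPullback.of_hasPullback f g) ω).injective
    rw [bcLift, Equiv.apply_symm_apply]
    exact Subtype.ext ((Category.assoc _ _ _).trans P.hφU)
  ext ψ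
  constructor
  · intro hψ
    have := P.unique ((liftsOpenEquiv (pullback.snd f g) P.U ω).symm ⟨ψ, hψ⟩)
    rw [Set.mem_singleton_iff, ← h0, ← this, Equiv.apply_symm_apply]
  · rintro rfl
    rw [← h0]
    exact (liftsOpenEquiv (pullback.snd f g) P.U ω P.φU).2

theorem Piece.integral_eq [IsAlgClosed Ω] {f : X ⟶ Y} {g : V ⟶ Y}
    {ω : Spec (CommRingCat.of Ω) ⟶ V} {φ : Lifts f (ω ≫ g)} (P : Piece f g ω φ.1) (w : X → ℤ) :
    MoreMor.fibreIntegral (P.U.ι ≫ pullback.snd f g) (fun u => w (pullback.fst f g (P.U.ι u)))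
      (pt ω) = w (pt φ.1) := by
  haveI := P.finite
  rw [fibreIntegral_open (pullback.snd f g) P.U (fun z => w (pullback.fst f g z)) ω rfl,
    P.liftsIn_eq, finsum_mem_singleton, ← pt_comp, bcLift_fst]

theorem fibreIntegral_bcMap (f : X ⟶ Y) (g : V ⟶ Y) {V' : Scheme.{u}} (h : V' ⟶ V)
    (U : (pullback f g).Opens) [IsFinite (U.ι ≫ pullback.snd f g)] (w : X → ℤ) (v' : V') :
    MoreMor.fibreIntegral ((bcMap f g h ⁻¹ᵁ U).ι ≫ pullback.snd f (h ≫ g))
      (fun u => w (pullback.fst f (h ≫ g) ((bcMap f g h ⁻¹ᵁ U).ι u))) v' =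
    MoreMor.fibreIntegral (U.ι ≫ pullback.snd f g)
      (fun u => w (pullback.fst f g (U.ι u))) (h v') := by
  rw [← fibreIntegral_baseChange (U.ι ≫ pullback.snd f g) _ _ h (isPullback_bcMap_restrict f g h U)
    (fun u => w (pullback.fst f g (U.ι u))) v' (finite_fibre_of_isFinite _ _)]
  congr 1
  funext u
  congr 1
  rw [← Scheme.Hom.comp_apply, ← Scheme.Hom.comp_apply, ← Scheme.Hom.comp_apply, ← bcMap_fst f g h]
  congr 1
  simp only [Category.assoc, morphismRestrict_ι_assoc]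

/-- The integral of a weighting along a finite open is locally constant after any base change. -/
theorem isLocallyConstant_integral {f : X ⟶ Y} [LocallyQuasiFinite f] [LocallyOfFiniteType f]
    {w : X → ℤ} (hw : MoreMor.IsWeighting f w) (k : V ⟶ Y) (U : (pullback f k).Opens)
    [IsFinite (U.ι ≫ pullback.snd f k)] :
    IsLocallyConstant (MoreMor.fibreIntegral (U.ι ≫ pullback.snd f k)
      (fun u => w (pullback.fst f k (U.ι u)))) := by
  classical
  refine (IsLocallyConstant.iff_exists_open _).mpr fun v₀ => ?_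
  obtain ⟨Ω, _, _, ω, hω⟩ := exists_geomPoint v₀
  have hLfin := finite_liftsIn (pullback.snd f k) U ω
  let img : Lifts (pullback.snd f k) ω → Lifts f (ω ≫ k) :=
    liftsPullbackEquiv (IsPullback.of_hasPullback f k) ω
  obtain ⟨V₁, _, g₁, _, ω₁, hω₁, hP⟩ :=
    exists_pieces f (ω ≫ k) (fun _ => ⊤) (fun _ => trivial) (hLfin.toFinset.image img)
  let V₃ := pullback k g₁
  let h : V₃ ⟶ V := pullback.fst k g₁
  let h₁ : V₃ ⟶ V₁ := pullback.snd k g₁
  let ω₃ : Spec (CommRingCat.of Ω) ⟶ V₃ := pullback.lift ω ω₁ hω₁.symm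
  have hω₃ : ω₃ ≫ h = ω := pullback.lift_fst _ _ _
  have hω₃' : ω₃ ≫ h₁ = ω₁ := pullback.lift_snd _ _ _
  have hkg : h₁ ≫ g₁ = h ≫ k := pullback.condition.symm
  let ι := {ψ // ψ ∈ liftsIn (pullback.snd f k) U ω}
  haveI : Finite ι := hLfin.to_subtype
  haveI := Fintype.ofFinite ι
  have hPi : ∀ i : ι, Nonempty (Piece f g₁ ω₁ (img i.1).1) := fun i => by
    obtain ⟨P, -⟩ := hP _ (Finset.mem_image_of_mem img (hLfin.mem_toFinset.mpr i.2))
    exact ⟨P⟩
  let P := fun i => (hPi i).some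
  -- move everything to the common neighbourhood
  haveI : Etale h := inferInstanceAs (Etale (pullback.fst k g₁))
  let K := h ≫ k
  let A := bcMap f k h ⁻¹ᵁ U
  haveI : IsFinite (A.ι ≫ pullback.snd f K) := MorphismProperty.of_isPullback (P := @IsFinite)
    (isPullback_bcMap_restrict f k h U) inferInstance
  have hQ : ∀ i, Nonempty {Q : Piece f K ω₃ (img i.1).1 //
      ∀ v, MoreMor.fibreIntegral (Q.U.ι ≫ pullback.snd f K)
        (fun u => w (pullback.fst f K (Q.U.ι u))) v =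
      MoreMor.fibreIntegral ((P i).U.ι ≫ pullback.snd f g₁)
        (fun u => w (pullback.fst f g₁ ((P i).U.ι u))) (h₁ v)} := by
    intro i
    have : ∀ K' : V₃ ⟶ Y, h₁ ≫ g₁ = K' → Nonempty {Q : Piece f K' ω₃ (img i.1).1 //
      ∀ v, MoreMor.fibreIntegral (Q.U.ι ≫ pullback.snd f K')
        (fun u => w (pullback.fst f K' (Q.U.ι u))) v =
      MoreMor.fibreIntegral ((P i).U.ι ≫ pullback.snd f g₁)
        (fun u => w (pullback.fst f g₁ ((P i).U.ι u))) (h₁ v)} := by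
      rintro K' rfl
      haveI := (P i).finite
      exact ⟨⟨(P i).baseChange h₁ ω₃ hω₃', fun v => fibreIntegral_bcMap f g₁ h₁ (P i).U w v⟩⟩
    exact this K hkg
  let Q := fun i => ((hQ i).some).1
  have hK : ω₃ ≫ K = ω ≫ k := by rw [← hω₃, Category.assoc]
  let lf : ι → Lifts f (ω₃ ≫ K) := fun i => ⟨(img i.1).1, (img i.1).2.trans hK.symm⟩
  let p : ι → Lifts (pullback.snd f K) ω₃ := fun i => bcLift f K ω₃ (lf i)
  have hpinj : Function.Injective p := fun i j hij => by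
    have h0 := congrArg Subtype.val
      ((liftsPullbackEquiv (IsPullback.of_hasPullback f K) ω₃).symm.injective hij)
    exact Subtype.ext ((liftsPullbackEquiv (IsPullback.of_hasPullback f k) ω).injective
      (Subtype.ext h0))
  have hp : ∀ i, (p i).1 ≫ bcMap f k h = i.1.1 := fun i => by
    apply pullback.hom_ext
    · rw [Category.assoc, bcMap_fst]; exact bcLift_fst f K ω₃ (lf i)
    · rw [Category.assoc, bcMap, pullback.lift_snd, ← Category.assoc, (p i).2, hω₃, i.1.2]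
  have hA : liftsIn (pullback.snd f K) A ω₃ = Set.range p := by
    ext ψ
    constructor
    · intro hψ
      let ψ' : Lifts (pullback.snd f k) ω :=
        ⟨ψ.1 ≫ bcMap f k h, by rw [Category.assoc, bcMap, pullback.lift_snd, ← Category.assoc, ψ.2, hω₃]⟩
      refine ⟨⟨ψ', show pt (ψ.1 ≫ bcMap f k h) ∈ U by rw [pt_comp]; exact hψ⟩, ?_⟩
      apply (liftsPullbackEquiv (IsPullback.of_hasPullback f K) ω₃).injective
      apply Subtype.ext
      refine (bcLift_fst f K ω₃ _).trans ?_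
      change (ψ.1 ≫ bcMap f k h) ≫ pullback.fst f k = _
      rw [Category.assoc, bcMap_fst]
      rfl
    · rintro ⟨i, rfl⟩
      change pt (p i).1 ∈ bcMap f k h ⁻¹ᵁ U
      change bcMap f k h (pt (p i).1) ∈ U
      rw [← pt_comp, hp]
      exact i.2
  obtain ⟨N, hN, h1, h2, h3⟩ := exists_nbhd_decomp (pullback.snd f K) A ω₃ (fun i => (Q i).U)
    (fun i => (Q i).finite) p hpinj (fun i => (Q i).liftsIn_eq (φ := lf i)) hA
  have hloc : ∀ i, ∃ M : V₃.Opens, pt ω₃ ∈ M ∧ ∀ v ∈ M,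
      MoreMor.fibreIntegral ((Q i).U.ι ≫ pullback.snd f K)
        (fun u => w (pullback.fst f K ((Q i).U.ι u))) v = w (pt (lf i).1) := by
    intro i
    haveI := (P i).finite
    have hlc := hw V₁ g₁ (P i).U (P i).finite
    refine ⟨h₁ ⁻¹ᵁ ⟨_, hlc.isOpen_fiber (w (pt (lf i).1))⟩, ?_, fun v hv => ?_⟩
    · change MoreMor.fibreIntegral _ _ (h₁ (pt ω₃)) = _
      rw [← ((hQ i).some).2 (pt ω₃)]
      exact (Q i).integral_eq (φ := lf i) w
    · rw [((hQ i).some).2 v]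
      exact hv
  choose M hM hM' using hloc
  let N' := N ⊓ Finset.univ.inf M
  have hN' : pt ω₃ ∈ N' := by
    exact ⟨hN, mem_finset_inf fun i _ => hM i⟩
  have hconst : ∀ v ∈ N', MoreMor.fibreIntegral (A.ι ≫ pullback.snd f K)
      (fun u => w (pullback.fst f K (A.ι u))) v = ∑ i, w (pt (lf i).1) := by
    intro v hv
    obtain ⟨Ω', _, _, ωv, hωv⟩ := exists_geomPoint v
    rw [fibreIntegral_open (pullback.snd f K) A (fun z => w (pullback.fst f K z)) ωv hωv,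
      finsum_liftsIn_eq_sum (pullback.snd f K) A (fun i => (Q i).U) (fun i => (Q i).finite) (fun z => w (pullback.fst f K z)) ωv N
        (hωv.symm ▸ hv.1) h1 h2 h3]
    refine Finset.sum_congr rfl fun i _ => ?_
    haveI := (Q i).finite
    rw [← fibreIntegral_open (pullback.snd f K) (Q i).U (fun z => w (pullback.fst f K z)) ωv hωv]
    exact hM' i v ((Finset.inf_le (f := M) (Finset.mem_univ i)) hv.2)
  refine ⟨h '' (N' : Set V₃), h.isOpenMap _ N'.2, ⟨pt ω₃, hN', by rw [← pt_comp, hω₃, hω]⟩, ?_⟩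
  rintro _ ⟨v, hv, rfl⟩
  rw [← fibreIntegral_bcMap f k h U w v, hconst v hv, ← hω, ← hω₃, pt_comp,
    ← fibreIntegral_bcMap f k h U w (pt ω₃), hconst _ hN']

end Groth.L20.Weight
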