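import Groth.Agent.L20.Weight.Props

/-!
# Composition of weightings
-/

universe u

open CategoryTheory CategoryTheory.Limits AlgebraicGeometry TopologicalSpace

namespace Groth.L20.Weight

set_option linter.style.haveILetI false
set_option backward.isDefEq.respectTransparency.types false

/-- Fibre integrals of a composite, when the inner integral is constant over a fibre. -/
theorem fibreIntegral_comp_const {P Q N : Scheme.{u}} (c : P ⟶ Q) (πQ : Q ⟶ N) (πP : P ⟶ N)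
    (hc : c ≫ πQ = πP) [IsFinite c] [IsFinite πQ] [IsFinite πP] (a : P → ℤ) (b : Q → ℤ) (m : ℤ)
    (v : N) (h : ∀ q, πQ q = v → MoreMor.fibreIntegral c a q = m) :
    MoreMor.fibreIntegral πP (fun p => a p * b (c p)) v = m * MoreMor.fibreIntegral πQ b v := by
  classical
  obtain ⟨Ω, _, _, ω, hω⟩ := exists_geomPoint v
  haveI := finite_lifts πP ω (finite_fibre_of_isFinite _ _)
  haveI := finite_lifts πQ ω (finite_fibre_of_isFinite _ _)
  haveI := Fintype.ofFinite (Lifts πP ω)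
  haveI := Fintype.ofFinite (Lifts πQ ω)
  rw [fibreIntegral_eq πP _ ω (finite_fibre_of_isFinite _ _) hω,
    fibreIntegral_eq πQ _ ω (finite_fibre_of_isFinite _ _) hω, finsum_eq_sum_of_fintype,
    finsum_eq_sum_of_fintype, Finset.mul_sum]
  let F : Lifts πP ω → Lifts πQ ω := fun φ => ⟨φ.1 ≫ c, by rw [Category.assoc, hc, φ.2]⟩
  rw [← Finset.sum_fiberwise Finset.univ F]
  refine Finset.sum_congr rfl fun χ _ => ?_
  haveI := finite_lifts c χ.1 (finite_fibre_of_isFinite _ _)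
  haveI := Fintype.ofFinite (Lifts c χ.1)
  rw [← h (pt χ.1) (χ.pt_eq.trans hω), fibreIntegral_eq c a χ.1 (finite_fibre_of_isFinite _ _) rfl,
    finsum_eq_sum_of_fintype, Finset.sum_mul]
  rw [Finset.sum_subtype (p := fun φ => F φ = χ) _ (fun φ => by simp) ]
  let E : {φ : Lifts πP ω // F φ = χ} ≃ Lifts c χ.1 :=
    { toFun := fun φ => ⟨φ.1.1, congrArg Subtype.val φ.2⟩
      invFun := fun φ => ⟨⟨φ.1, by rw [← hc, ← Category.assoc, φ.2, χ.2]⟩, Subtype.ext φ.2⟩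
      left_inv := fun _ => rfl
      right_inv := fun _ => rfl }
  refine Fintype.sum_equiv E _ _ fun φ => ?_
  change a (pt φ.1.1) * b (c (pt φ.1.1)) = a (pt φ.1.1) * b (pt χ.1)
  rw [← pt_comp, show φ.1.1 ≫ c = χ.1 from congrArg Subtype.val φ.2]

variable {X Y Z : Scheme.{u}} {Ω : Type u} [Field Ω]

set_option maxHeartbeats 1000000 in
/-- The product of weightings along a piece with one geometric point. -/
theorem comp_piece_const [IsAlgClosed Ω] {f : X ⟶ Y} {g : Y ⟶ Z} [LocallyQuasiFinite f]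
    [LocallyOfFiniteType f] {wf : X → ℤ} {wg : Y → ℤ} (hf : MoreMor.IsWeighting f wf)
    (hg : MoreMor.IsWeighting g wg) {V P : Scheme.{u}} (K : V ⟶ Z) [Etale K] (j : P ⟶ X) (πP : P ⟶ V)
    (hj : j ≫ f ≫ g = πP ≫ K) [IsOpenImmersion (pullback.lift j πP hj)] [IsFinite πP]
    (ω : Spec (CommRingCat.of Ω) ⟶ V) (φ₀ : Lifts πP ω) (huniq : ∀ ψ, ψ = φ₀)
    (χ : Lifts g (ω ≫ K)) (hχ : φ₀.1 ≫ j ≫ f = χ.1) (Q : Piece g K ω χ.1) :
    ∃ N : V.Opens, pt ω ∈ N ∧ ∀ v ∈ N,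
      MoreMor.fibreIntegral πP (fun p => wf (j p) * wg (f (j p))) v =
        wf (pt (φ₀.1 ≫ j)) * wg (pt χ.1) := by
  haveI := Q.finite
  let G : P ⟶ pullback g K := pullback.lift (j ≫ f) πP (by rw [Category.assoc]; exact hj)
  have hG₁ : G ≫ pullback.fst g K = j ≫ f := pullback.lift_fst _ _ _
  have hG₂ : G ≫ pullback.snd g K = πP := pullback.lift_snd _ _ _
  have hG₀ : φ₀.1 ≫ G = (bcLift g K ω χ).1 := by
    apply pullback.hom_ext
    · rw [Category.assoc, hG₁, hχ]; exact (bcLift_fst g K ω χ).symm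
    · rw [Category.assoc, hG₂, φ₀.2]; exact (bcLift g K ω χ).2.symm
  have hmem : ∀ p, πP p = pt ω → G p ∈ Q.U := fun p hp => by
    obtain ⟨ψ, rfl⟩ := exists_lift_of_apply_eq πP ω hp
    rw [huniq ψ, ← pt_comp, hG₀]
    have h : bcLift g K ω χ ∈ liftsIn (pullback.snd g K) Q.U ω := by rw [Q.liftsIn_eq]; rfl
    exact h
  let N₁ : V.Opens := ⟨_, (πP.isClosedMap _ (Q.U.2.preimage G.continuous).isClosed_compl).isOpen_compl⟩
  have hN₁ : pt ω ∈ N₁ := by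
    rintro ⟨p, hp, hpv⟩
    exact hp (hmem p hpv)
  have hN₁' : ∀ p, πP p ∈ N₁ → G p ∈ Q.U := fun p hp => by
    by_contra h
    exact hp ⟨p, h, rfl⟩
  let πQ := (Q.U.ι ≫ pullback.snd g K) ∣_ N₁
  haveI : IsFinite πQ := MorphismProperty.of_isPullback (P := @IsFinite)
    (isPullback_morphismRestrict (Q.U.ι ≫ pullback.snd g K) N₁).flip inferInstance
  haveI : IsFinite (πP ∣_ N₁) := MorphismProperty.of_isPullback (P := @IsFinite)
    (isPullback_morphismRestrict πP N₁).flip inferInstance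
  let eQ := ((Q.U.ι ≫ pullback.snd g K) ⁻¹ᵁ N₁).ι ≫ Q.U.ι
  have hle : Set.range ((πP ⁻¹ᵁ N₁).ι ≫ G) ⊆ Set.range eQ := by
    rintro _ ⟨p, rfl⟩
    refine ⟨⟨⟨_, hN₁' _ p.2⟩, ?_⟩, rfl⟩
    change (pullback.snd g K) (G ((πP ⁻¹ᵁ N₁).ι p)) ∈ N₁
    rw [← Scheme.Hom.comp_apply, hG₂]
    exact p.2
  let c := IsOpenImmersion.lift eQ ((πP ⁻¹ᵁ N₁).ι ≫ G) hle
  have hc : c ≫ eQ = (πP ⁻¹ᵁ N₁).ι ≫ G := IsOpenImmersion.lift_fac _ _ _
  have hcπ : c ≫ πQ = πP ∣_ N₁ := by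
    rw [← cancel_mono N₁.ι, Category.assoc, morphismRestrict_ι, morphismRestrict_ι]
    have h1 := congrArg (fun e => e ≫ pullback.snd g K) hc
    simp only [eQ, Category.assoc, hG₂] at h1
    exact h1
  haveI : IsFinite (c ≫ πQ) := by rw [hcπ]; infer_instance
  haveI : IsFinite c := IsFinite.of_comp c πQ
  -- `c` is a finite open piece of a base change of `f`
  let kQ := eQ ≫ pullback.fst g K
  have hcomm : ((πP ⁻¹ᵁ N₁).ι ≫ j) ≫ f = c ≫ kQ := by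
    rw [← Category.assoc c, hc, Category.assoc, Category.assoc, hG₁]
  let m : pullback f kQ ⟶ pullback (f ≫ g) K :=
    pullback.map f kQ f (pullback.fst g K) (𝟙 X) eQ (𝟙 Y) (by simp) (by simp [kQ]) ≫
      (pullbackRightPullbackFstIso g K f).hom
  haveI : IsOpenImmersion eQ := inferInstanceAs (IsOpenImmersion (_ ≫ _))
  haveI : IsOpenImmersion m := inferInstanceAs (IsOpenImmersion (_ ≫ _))
  have hm : pullback.lift ((πP ⁻¹ᵁ N₁).ι ≫ j) c hcomm ≫ m =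
      (πP ⁻¹ᵁ N₁).ι ≫ pullback.lift j πP hj := by
    apply pullback.hom_ext
    · simp only [m, Category.assoc, pullbackRightPullbackFstIso_hom_fst, pullback.lift_fst,
        pullback.map, Category.comp_id]
    · simp only [m, Category.assoc, pullbackRightPullbackFstIso_hom_snd, pullback.lift_snd,
        pullback.map, pullback.lift_snd_assoc]
      rw [← Category.assoc c, hc, Category.assoc, hG₂]
  haveI : IsOpenImmersion (pullback.lift ((πP ⁻¹ᵁ N₁).ι ≫ j) c hcomm ≫ m) := by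
    rw [hm]; infer_instance
  haveI : IsOpenImmersion (pullback.lift ((πP ⁻¹ᵁ N₁).ι ≫ j) c hcomm) := IsOpenImmersion.of_comp _ m
  have hloc := isLocallyConstant_of_openImmersion hf kQ ((πP ⁻¹ᵁ N₁).ι ≫ j) c hcomm
  -- the base point
  let ωN : Spec (CommRingCat.of Ω) ⟶ N₁.toScheme := IsOpenImmersion.lift N₁.ι ω (by
    rw [range_eq_pt, Scheme.Opens.range_ι, Set.singleton_subset_iff]; exact hN₁)
  have hωN : ωN ≫ N₁.ι = ω := IsOpenImmersion.lift_fac _ _ _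
  have hpt : N₁.ι (pt ωN) = pt ω := by rw [← pt_comp, hωN]
  have hval : ∀ q, πQ q = pt ωN → MoreMor.fibreIntegral c (fun u => wf (((πP ⁻¹ᵁ N₁).ι ≫ j) u)) q =
      wf (pt (φ₀.1 ≫ j)) := by
    intro q hq
    obtain ⟨θ, hθ⟩ := exists_lift_of_apply_eq πQ ωN hq
    rw [fibreIntegral_eq c _ θ.1 (finite_fibre_of_isFinite _ _) hθ]
    have key : ∀ φ : Lifts c θ.1, φ.1 ≫ (πP ⁻¹ᵁ N₁).ι = φ₀.1 := by
      intro φ
      refine congrArg Subtype.val (huniq ⟨φ.1 ≫ (πP ⁻¹ᵁ N₁).ι, ?_⟩)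
      rw [Category.assoc, ← morphismRestrict_ι, ← hcπ, Category.assoc, ← Category.assoc φ.1 c,
        φ.2, ← Category.assoc, θ.2]
      exact hωN
    -- existence
    obtain ⟨φ₁, hφ₁⟩ : ∃ φ₁ : Lifts (πP ∣_ N₁) ωN, φ₁.1 ≫ (πP ⁻¹ᵁ N₁).ι = φ₀.1 :=
      ⟨(liftsPullbackEquiv (isPullback_morphismRestrict πP N₁).flip ωN).symm
        ⟨φ₀.1, φ₀.2.trans hωN.symm⟩, (isPullback_morphismRestrict πP N₁).flip.lift_fst _ _ _⟩
    have hθ' : φ₁.1 ≫ c = θ.1 := by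
      rw [← cancel_mono eQ, Category.assoc, hc, ← Category.assoc, hφ₁, hG₀]
      have hθe : (θ.1 ≫ eQ) ≫ pullback.snd g K = ω := by
        refine Eq.trans ?_ hωN
        refine Eq.trans ?_ (congrArg (· ≫ N₁.ι) θ.2)
        simp only [eQ, πQ, Category.assoc, morphismRestrict_ι]
      have h2 : (⟨θ.1 ≫ eQ, hθe⟩ : Lifts (pullback.snd g K) ω) ∈ liftsIn (pullback.snd g K) Q.U ω := by
        change pt (θ.1 ≫ eQ) ∈ Q.U
        rw [pt_comp]
        exact (((Q.U.ι ≫ pullback.snd g K) ⁻¹ᵁ N₁).ι (pt θ.1)).2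
      rw [Q.liftsIn_eq, Set.mem_singleton_iff] at h2
      exact (congrArg Subtype.val h2).symm
    rw [finsum_eq_single _ (⟨φ₁.1, hθ'⟩ : Lifts c θ.1) fun φ hne => absurd
      (Subtype.ext ((cancel_mono (πP ⁻¹ᵁ N₁).ι).mp ((key φ).trans hφ₁.symm))) hne]
    rw [← pt_comp, ← Category.assoc, hφ₁]
  let O : Set _ := {q | MoreMor.fibreIntegral c (fun u => wf (((πP ⁻¹ᵁ N₁).ι ≫ j) u)) q =
    wf (pt (φ₀.1 ≫ j))}
  have hO : IsClosed (πQ '' Oᶜ) := πQ.isClosedMap _ (hloc.isOpen_fiber _).isClosed_compl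
  obtain ⟨N₂, hN₂, hN₂'⟩ := Q.exists_nbhd hg
  let N₃ : N₁.toScheme.Opens := ⟨_, hO.isOpen_compl⟩
  refine ⟨N₁.ι ''ᵁ N₃ ⊓ N₂, ⟨⟨pt ωN, ?_, hpt⟩, hN₂⟩, ?_⟩
  · rintro ⟨q, hq, hqv⟩
    exact hq (hval q hqv)
  rintro v ⟨⟨v', hv', hvv'⟩, hv₂⟩
  have hvv : N₁.ι v' = v := hvv'
  have h1 := fibreIntegral_comp_const c πQ (πP ∣_ N₁) hcπ
    (fun u => wf (((πP ⁻¹ᵁ N₁).ι ≫ j) u))
    (fun q => wg (pullback.fst g K (Q.U.ι (((Q.U.ι ≫ pullback.snd g K) ⁻¹ᵁ N₁).ι q))))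
    (wf (pt (φ₀.1 ≫ j))) v' (fun q hq => by
      by_contra h
      exact hv' ⟨q, h, hq⟩)
  rw [fibreIntegral_baseChange (Q.U.ι ≫ pullback.snd g K) πQ _ N₁.ι
      (isPullback_morphismRestrict _ N₁).flip (fun u => wg (pullback.fst g K (Q.U.ι u))) v'
      (finite_fibre_of_isFinite _ _), hvv, hN₂' v hv₂] at h1
  rw [← h1, ← hvv, ← fibreIntegral_baseChange πP (πP ∣_ N₁) _ N₁.ι
    (isPullback_morphismRestrict _ N₁).flip (fun p => wf (j p) * wg (f (j p))) v'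
    (finite_fibre_of_isFinite _ _)]
  congr 1
  funext u
  have e : c ≫ eQ ≫ pullback.fst g K = (πP ⁻¹ᵁ N₁).ι ≫ j ≫ f := by
    rw [← Category.assoc, hc, Category.assoc, hG₁]
  have e' := congrArg (fun t : _ ⟶ Y => wg (t u)) e
  simp only [eQ, Category.assoc, Scheme.Hom.comp_apply] at e'
  simp only [Scheme.Hom.comp_apply, e']

end Groth.L20.Weight
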