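import Groth.Agent.L20.Weight.Basic

/-!
# A criterion for a function to be a weighting
-/

universe u

open CategoryTheory CategoryTheory.Limits AlgebraicGeometry TopologicalSpace

namespace Groth.L20.Weight

set_option linter.style.haveILetI false
set_option backward.isDefEq.respectTransparency.types false

variable {X Y V : Scheme.{u}}

/-- Every geometric point of the source lies in an isolating piece with locally constant integral. -/
def HasLCPieces (f : X ⟶ Y) (w : X → ℤ) : Prop :=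
  ∀ (Ω : Type u) [Field Ω] [IsAlgClosed Ω] (φ₀ : Spec (CommRingCat.of Ω) ⟶ X),
    ∃ (V : Scheme.{u}) (g : V ⟶ Y) (_ : Etale g) (ω : Spec (CommRingCat.of Ω) ⟶ V)
      (_ : ω ≫ g = φ₀ ≫ f) (P : Piece f g ω φ₀),
      IsLocallyConstant (MoreMor.fibreIntegral (P.U.ι ≫ pullback.snd f g)
        (fun u => w (pullback.fst f g (P.U.ι u))))

variable {Ω : Type u} [Field Ω]

theorem exists_baseChange_lc {f : X ⟶ Y} {w : X → ℤ} {g : V ⟶ Y}
    {ω : Spec (CommRingCat.of Ω) ⟶ V} {φ : Spec (CommRingCat.of Ω) ⟶ X} (P : Piece f g ω φ)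
    (hP : IsLocallyConstant (MoreMor.fibreIntegral (P.U.ι ≫ pullback.snd f g)
      (fun u => w (pullback.fst f g (P.U.ι u)))))
    {V' : Scheme.{u}} (h : V' ⟶ V) (ω' : Spec (CommRingCat.of Ω) ⟶ V') (hω : ω' ≫ h = ω)
    {k : V' ⟶ Y} (hk : k = h ≫ g) :
    ∃ Q : Piece f k ω' φ, IsLocallyConstant (MoreMor.fibreIntegral (Q.U.ι ≫ pullback.snd f k)
      (fun u => w (pullback.fst f k (Q.U.ι u)))) := by
  subst hk
  refine ⟨P.baseChange h ω' hω, ?_⟩
  haveI := P.finite
  have e : MoreMor.fibreIntegral ((P.baseChange h ω' hω).U.ι ≫ pullback.snd f (h ≫ g))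
      (fun u => w (pullback.fst f (h ≫ g) ((P.baseChange h ω' hω).U.ι u))) =
      MoreMor.fibreIntegral (P.U.ι ≫ pullback.snd f g)
        (fun u => w (pullback.fst f g (P.U.ι u))) ∘ h :=
    funext fun v => fibreIntegral_bcMap f g h P.U w v
  rw [e]
  exact hP.comp_continuous h.continuous

theorem exists_lc_pieces [IsAlgClosed Ω] {f : X ⟶ Y} {w : X → ℤ} (hw : HasLCPieces f w)
    (ω : Spec (CommRingCat.of Ω) ⟶ Y) (s : Finset (Lifts f ω)) :
    ∃ (V : Scheme.{u}) (_ : Unit) (g : V ⟶ Y) (_ : Etale g)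
      (ω' : Spec (CommRingCat.of Ω) ⟶ V) (_ : ω' ≫ g = ω),
      ∀ φ ∈ s, ∃ P : Piece f g ω' φ.1,
        IsLocallyConstant (MoreMor.fibreIntegral (P.U.ι ≫ pullback.snd f g)
          (fun u => w (pullback.fst f g (P.U.ι u)))) := by
  classical
  induction s using Finset.induction_on with
  | empty => exact ⟨Y, (), 𝟙 Y, inferInstance, ω, Category.comp_id _, by simp⟩
  | insert φ₀ s _ ih =>
    obtain ⟨V₁, _, g₁, _, ω₁, hω₁, hP₁⟩ := ih
    obtain ⟨V₂, g₂, _, ω₂, hω₂, P₂, hP₂⟩ := hw Ω φ₀.1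
    let ω₃ : Spec (CommRingCat.of Ω) ⟶ pullback g₁ g₂ :=
      pullback.lift ω₁ ω₂ (hω₁.trans (hω₂.trans φ₀.2).symm)
    refine ⟨pullback g₁ g₂, (), pullback.fst g₁ g₂ ≫ g₁, inferInstance, ω₃,
      by rw [pullback.lift_fst_assoc, hω₁], fun φ hφ => ?_⟩
    rcases Finset.mem_insert.mp hφ with rfl | hφ
    · exact exists_baseChange_lc P₂ hP₂ (pullback.snd g₁ g₂) ω₃ (pullback.lift_snd _ _ _)
        pullback.condition
    · obtain ⟨P, hP⟩ := hP₁ φ hφ
      exact exists_baseChange_lc P hP (pullback.fst g₁ g₂) ω₃ (pullback.lift_fst _ _ _) rfl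

/-- A function with enough locally constant pieces is a weighting. -/
theorem isLocallyConstant_of_pieces {f : X ⟶ Y} [LocallyQuasiFinite f] [LocallyOfFiniteType f]
    {w : X → ℤ} (hw : HasLCPieces f w) (k : V ⟶ Y) (U : (pullback f k).Opens)
    [IsFinite (U.ι ≫ pullback.snd f k)] :
    IsLocallyConstant (MoreMor.fibreIntegral (U.ι ≫ pullback.snd f k)
      (fun u => w (pullback.fst f k (U.ι u)))) := by
  classical
  refine (IsLocallyConstant.iff_exists_open _).mpr fun v₀ => ?_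
  obtain ⟨Ω, _, _, ω, hω⟩ := exists_geomPoint v₀
  have hLfin := finite_liftsIn (pullback.snd f k) U ω
  let img : Lifts (pullback.snd f k) ω → Lifts f (ω ≫ k) :=
    liftsPullbackEquiv (IsPullback.of_hasPullback f k) ω
  obtain ⟨V₁, _, g₁, _, ω₁, hω₁, hP⟩ :=
    exists_lc_pieces hw (ω ≫ k) (hLfin.toFinset.image img)
  let V₃ := pullback k g₁
  let h : V₃ ⟶ V := pullback.fst k g₁
  let h₁ : V₃ ⟶ V₁ := pullback.snd k g₁
  let ω₃ : Spec (CommRingCat.of Ω) ⟶ V₃ := pullback.lift ω ω₁ hω₁.symm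
  have hω₃ : ω₃ ≫ h = ω := pullback.lift_fst _ _ _
  have hω₃' : ω₃ ≫ h₁ = ω₁ := pullback.lift_snd _ _ _
  have hkg : h₁ ≫ g₁ = h ≫ k := pullback.condition.symm
  let ι := {ψ // ψ ∈ liftsIn (pullback.snd f k) U ω}
  haveI : Finite ι := hLfin.to_subtype
  haveI := Fintype.ofFinite ι
  choose P hPlc using fun i : ι => hP _ (Finset.mem_image_of_mem img (hLfin.mem_toFinset.mpr i.2))
  -- move everything to the common neighbourhood
  haveI : Etale h := inferInstanceAs (Etale (pullback.fst k g₁))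
  let K := h ≫ k
  let A := bcMap f k h ⁻¹ᵁ U
  haveI : IsFinite (A.ι ≫ pullback.snd f K) := MorphismProperty.of_isPullback (P := @IsFinite)
    (isPullback_bcMap_restrict f k h U) inferInstance
  have hQ : ∀ i, Nonempty {Q : Piece f K ω₃ (img i.1).1 //
      ∀ v, MoreMor.fibreIntegral (Q.U.ι ≫ pullback.snd f K)
        (fun u => w (pullback.fst f K (Q.U.ι u))) v =
      MoreMor.fibreIntegral ((P i).U.ι ≫ pullback.snd f g₁)
        (fun u => w (pullback.fst f g₁ ((P i).U.ι u))) (h₁ v)} := by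
    intro i
    have : ∀ K' : V₃ ⟶ Y, h₁ ≫ g₁ = K' → Nonempty {Q : Piece f K' ω₃ (img i.1).1 //
      ∀ v, MoreMor.fibreIntegral (Q.U.ι ≫ pullback.snd f K')
        (fun u => w (pullback.fst f K' (Q.U.ι u))) v =
      MoreMor.fibreIntegral ((P i).U.ι ≫ pullback.snd f g₁)
        (fun u => w (pullback.fst f g₁ ((P i).U.ι u))) (h₁ v)} := by
      rintro K' rfl
      haveI := (P i).finite
      exact ⟨⟨(P i).baseChange h₁ ω₃ hω₃', fun v => fibreIntegral_bcMap f g₁ h₁ (P i).U w v⟩⟩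
    exact this K hkg
  let Q := fun i => ((hQ i).some).1
  have hK : ω₃ ≫ K = ω ≫ k := by rw [← hω₃, Category.assoc]
  let lf : ι → Lifts f (ω₃ ≫ K) := fun i => ⟨(img i.1).1, (img i.1).2.trans hK.symm⟩
  let p : ι → Lifts (pullback.snd f K) ω₃ := fun i => bcLift f K ω₃ (lf i)
  have hpinj : Function.Injective p := fun i j hij => by
    have h0 := congrArg Subtype.val
      ((liftsPullbackEquiv (IsPullback.of_hasPullback f K) ω₃).symm.injective hij)
    exact Subtype.ext ((liftsPullbackEquiv (IsPullback.of_hasPullback f k) ω).injective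
      (Subtype.ext h0))
  have hp : ∀ i, (p i).1 ≫ bcMap f k h = i.1.1 := fun i => by
    apply pullback.hom_ext
    · rw [Category.assoc, bcMap_fst]; exact bcLift_fst f K ω₃ (lf i)
    · rw [Category.assoc, bcMap, pullback.lift_snd, ← Category.assoc, (p i).2, hω₃, i.1.2]
  have hA : liftsIn (pullback.snd f K) A ω₃ = Set.range p := by
    ext ψ
    constructor
    · intro hψ
      let ψ' : Lifts (pullback.snd f k) ω :=
        ⟨ψ.1 ≫ bcMap f k h, by rw [Category.assoc, bcMap, pullback.lift_snd, ← Category.assoc, ψ.2, hω₃]⟩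
      refine ⟨⟨ψ', show pt (ψ.1 ≫ bcMap f k h) ∈ U by rw [pt_comp]; exact hψ⟩, ?_⟩
      apply (liftsPullbackEquiv (IsPullback.of_hasPullback f K) ω₃).injective
      apply Subtype.ext
      refine (bcLift_fst f K ω₃ _).trans ?_
      change (ψ.1 ≫ bcMap f k h) ≫ pullback.fst f k = _
      rw [Category.assoc, bcMap_fst]
      rfl
    · rintro ⟨i, rfl⟩
      change pt (p i).1 ∈ bcMap f k h ⁻¹ᵁ U
      change bcMap f k h (pt (p i).1) ∈ U
      rw [← pt_comp, hp]
      exact i.2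
  obtain ⟨N, hN, h1, h2, h3⟩ := exists_nbhd_decomp (pullback.snd f K) A ω₃ (fun i => (Q i).U)
    (fun i => (Q i).finite) p hpinj (fun i => (Q i).liftsIn_eq (φ := lf i)) hA
  have hloc : ∀ i, ∃ M : V₃.Opens, pt ω₃ ∈ M ∧ ∀ v ∈ M,
      MoreMor.fibreIntegral ((Q i).U.ι ≫ pullback.snd f K)
        (fun u => w (pullback.fst f K ((Q i).U.ι u))) v = w (pt (lf i).1) := by
    intro i
    haveI := (P i).finite
    have hlc := hPlc i
    refine ⟨h₁ ⁻¹ᵁ ⟨_, hlc.isOpen_fiber (w (pt (lf i).1))⟩, ?_, fun v hv => ?_⟩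
    · change MoreMor.fibreIntegral _ _ (h₁ (pt ω₃)) = _
      rw [← ((hQ i).some).2 (pt ω₃)]
      exact (Q i).integral_eq (φ := lf i) w
    · rw [((hQ i).some).2 v]
      exact hv
  choose M hM hM' using hloc
  let N' := N ⊓ Finset.univ.inf M
  have hN' : pt ω₃ ∈ N' := by
    exact ⟨hN, mem_finset_inf fun i _ => hM i⟩
  have hconst : ∀ v ∈ N', MoreMor.fibreIntegral (A.ι ≫ pullback.snd f K)
      (fun u => w (pullback.fst f K (A.ι u))) v = ∑ i, w (pt (lf i).1) := by
    intro v hv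
    obtain ⟨Ω', _, _, ωv, hωv⟩ := exists_geomPoint v
    rw [fibreIntegral_open (pullback.snd f K) A (fun z => w (pullback.fst f K z)) ωv hωv,
      finsum_liftsIn_eq_sum (pullback.snd f K) A (fun i => (Q i).U) (fun i => (Q i).finite) (fun z => w (pullback.fst f K z)) ωv N
        (hωv.symm ▸ hv.1) h1 h2 h3]
    refine Finset.sum_congr rfl fun i _ => ?_
    haveI := (Q i).finite
    rw [← fibreIntegral_open (pullback.snd f K) (Q i).U (fun z => w (pullback.fst f K z)) ωv hωv]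
    exact hM' i v ((Finset.inf_le (f := M) (Finset.mem_univ i)) hv.2)
  refine ⟨h '' (N' : Set V₃), h.isOpenMap _ N'.2, ⟨pt ω₃, hN', by rw [← pt_comp, hω₃, hω]⟩, ?_⟩
  rintro _ ⟨v, hv, rfl⟩
  rw [← fibreIntegral_bcMap f k h U w v, hconst v hv, ← hω, ← hω₃, pt_comp,
    ← fibreIntegral_bcMap f k h U w (pt ω₃), hconst _ hN']

/-- A function with enough locally constant pieces is a weighting. -/
theorem isWeighting_of_pieces {f : X ⟶ Y} [LocallyQuasiFinite f] [LocallyOfFiniteType f]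
    {w : X → ℤ} (hw : HasLCPieces f w) : MoreMor.IsWeighting f w := fun _ g _ U hU =>
  haveI := hU
  isLocallyConstant_of_pieces hw g U

end Groth.L20.Weight
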