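import Groth.Agent.L20.Weight.IntegralCons

/-!
# Constructibility of fibre integrals of functions with constructible levels
-/

universe u

open CategoryTheory CategoryTheory.Limits AlgebraicGeometry TopologicalSpace Topology

namespace Groth.L20.Weight

set_option linter.style.haveILetI false
set_option backward.isDefEq.respectTransparency.types false

variable {X Y : Scheme.{u}}

/-- Each point of an affine base has a constructible neighbourhood on which the integral is constant. -/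
theorem exists_cons_nbhd_integral_of_levels [IsAffine Y] (f : X ⟶ Y) [LocallyQuasiFinite f]
    [LocallyOfFinitePresentation f] [QuasiCompact f] [QuasiSeparated f] {w : X → ℤ}
    (hw : ∀ n, IsConstructible {x : X | w x = n}) (y : Y) :
    ∃ T : Set Y, IsConstructible T ∧ y ∈ T ∧
      ∀ z ∈ T, MoreMor.fibreIntegral f w z = MoreMor.fibreIntegral f w y := by
  classical
  have hfin : ∀ z, (f ⁻¹' {z}).Finite := fun z => f.finite_preimage_singleton z
  obtain ⟨Ω, _, _, ω₀, hω₀⟩ := exists_geomPoint y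
  haveI := finite_lifts f ω₀ (hfin _)
  haveI := Fintype.ofFinite (Lifts f ω₀)
  obtain ⟨V, _, g, _, ω, hω, hP⟩ := exists_pieces f ω₀ (fun _ => ⊤) (fun _ => trivial) Finset.univ
  have hP' : ∀ φ : Lifts f (ω ≫ g), Nonempty (Piece f g ω φ.1) := fun φ => by
    obtain ⟨P, -⟩ := hP ⟨φ.1, φ.2.trans hω⟩ (Finset.mem_univ _)
    exact ⟨P⟩
  let P := fun φ => (hP' φ).some
  haveI : Finite (Lifts f (ω ≫ g)) := hω.symm ▸ inferInstance
  haveI := Fintype.ofFinite (Lifts f (ω ≫ g))
  let π := pullback.snd f g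
  haveI : QuasiCompact π := MorphismProperty.pullback_snd f g inferInstance
  haveI : QuasiSeparated π := MorphismProperty.pullback_snd f g inferInstance
  haveI : LocallyOfFinitePresentation π := MorphismProperty.pullback_snd f g inferInstance
  haveI : CompactSpace ↑(pullback f g) := QuasiCompact.compactSpace_of_compactSpace π
  haveI : QuasiSeparatedSpace ↑(pullback f g) := quasiSeparatedSpace_of_quasiSeparated π
  have hUc : ∀ φ, IsCompact ((P φ).U : Set ↑(pullback f g)) := fun φ => by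
    haveI := (P φ).finite
    haveI : IsAffine (P φ).U.toScheme := isAffine_of_isAffineHom ((P φ).U.ι ≫ π)
    exact (show IsAffineOpen (P φ).U from ‹IsAffine (P φ).U.toScheme›).isCompact
  let B₁ : Set ↑(pullback f g) := (⋃ φ, ((P φ).U : Set ↑(pullback f g)))ᶜ
  let B₂ : Set ↑(pullback f g) :=
    ⋃ q ∈ {q : Lifts f (ω ≫ g) × Lifts f (ω ≫ g) | q.1 ≠ q.2}, ((P q.1).U ⊓ (P q.2).U : (pullback f g).Opens)
  have hB₁ : IsConstructible B₁ :=
    isConstructible_compl.mpr (IsConstructible.iUnion fun φ => isConstructible_of_isCompact _ (hUc φ))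
  have hB₂ : IsConstructible B₂ := IsConstructible.biUnion (Set.toFinite _) fun q _ =>
    (isConstructible_of_isCompact _ (hUc q.1)).inter (isConstructible_of_isCompact _ (hUc q.2))
  have hC : ∀ φ, ∃ C : Set V, IsConstructible C ∧ pt ω ∈ C ∧ ∀ (K : Type u) [Field K] [IsAlgClosed K]
      (ωK : Spec (CommRingCat.of K) ⟶ V), pt ωK ∈ C →
        ∀ φ' ψ' : Lifts ((P φ).U.ι ≫ π) ωK, φ' = ψ' := fun φ => by
    haveI := (P φ).finite
    exact exists_constructible_single ((P φ).U.ι ≫ π) ω fun a b =>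
      ((P φ).unique a).trans ((P φ).unique b).symm
  choose C hCc hωC hC' using hC
  haveI : QuasiCompact g := quasiCompact_of_compactSpace g
  let q := fun φ => (P φ).U.ι ≫ π
  let D : Lifts f (ω ≫ g) → Set V := fun φ =>
    q φ '' (((P φ).U.ι ≫ pullback.fst f g) ⁻¹' {x | w x = w (pt φ.1)})
  have hDc : ∀ φ, IsConstructible (D φ) := fun φ => by
    haveI := (P φ).finite
    haveI : IsAffine (P φ).U.toScheme := isAffine_of_isAffineHom (q φ)
    haveI : IsFinite (q φ) := (P φ).finite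
    haveI : LocallyOfFinitePresentation (q φ) :=
      inferInstanceAs (LocallyOfFinitePresentation ((P φ).U.ι ≫ π))
    exact (q φ).isConstructible_image (((P φ).U.ι ≫ pullback.fst f g).isConstructible_preimage (hw _))
  have hωD : ∀ φ, pt ω ∈ D φ := fun φ => ⟨pt (P φ).φU.1,
    show w (((P φ).U.ι ≫ pullback.fst f g) (pt (P φ).φU.1)) = w (pt φ.1) by
      rw [← pt_comp, (P φ).hφU], (P φ).φU.pt_eq⟩
  let C' : Set V := ((⋂ φ, C φ ∩ D φ) \ (π '' B₁)) \ (π '' B₂)
  have hC'c : IsConstructible C' :=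
    ((IsConstructible.iInter fun φ => (hCc φ).inter (hDc φ)).sdiff (π.isConstructible_image hB₁)).sdiff
        (π.isConstructible_image hB₂)
  have hmem : pt ω ∈ C' := by
    refine ⟨⟨Set.mem_iInter.mpr fun φ => ⟨hωC φ, hωD φ⟩, ?_⟩, ?_⟩
    · rintro ⟨x, hx, hxω⟩
      obtain ⟨ψ, rfl⟩ := exists_lift_of_apply_eq π ω hxω
      refine hx (Set.mem_iUnion.mpr ⟨liftsPullbackEquiv (IsPullback.of_hasPullback f g) ω ψ, ?_⟩)
      have h := (P (liftsPullbackEquiv (IsPullback.of_hasPullback f g) ω ψ)).liftsIn_eq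
      have h2 : ψ ∈ liftsIn π (P (liftsPullbackEquiv (IsPullback.of_hasPullback f g) ω ψ)).U ω := by
        rw [h, Set.mem_singleton_iff, bcLift, Equiv.symm_apply_apply]
      exact h2
    · rintro ⟨x, hx, hxω⟩
      obtain ⟨⟨φ, φ'⟩, hne, hxU⟩ := Set.mem_iUnion₂.mp hx
      haveI := (P φ).finite
      obtain ⟨ψ, hψ, rfl⟩ := exists_mem_liftsIn π (P φ).U ω hxω hxU.1
      have hψ' : ψ ∈ liftsIn π (P φ').U ω := hxU.2
      rw [(P φ).liftsIn_eq, Set.mem_singleton_iff] at hψ
      rw [(P φ').liftsIn_eq, Set.mem_singleton_iff, hψ] at hψ'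
      exact hne ((liftsPullbackEquiv (IsPullback.of_hasPullback f g) ω).symm.injective hψ')
  have hy : g (pt ω) = y := by rw [← pt_comp, hω, hω₀]
  refine ⟨g '' C', g.isConstructible_image hC'c, ⟨pt ω, hmem, hy⟩, ?_⟩
  rintro _ ⟨v, ⟨⟨hv, hv₁⟩, hv₂⟩, rfl⟩
  obtain ⟨K, _, _, ωv, hωv⟩ := exists_geomPoint v
  haveI : Finite (Lifts f (ωv ≫ g)) := finite_lifts f _ (hfin _)
  haveI : Finite (Lifts π ωv) :=
    Finite.of_equiv _ (liftsPullbackEquiv (IsPullback.of_hasPullback f g) ωv).symm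
  have h1 : MoreMor.fibreIntegral f w (g v) =
      ∑ᶠ ψ : Lifts π ωv, w (pullback.fst f g (pt ψ.1)) := by
    rw [fibreIntegral_eq f w (ωv ≫ g) (hfin _) (by rw [pt_comp, hωv])]
    refine (finsum_eq_of_bijective _
      (liftsPullbackEquiv (IsPullback.of_hasPullback f g) ωv).bijective fun ψ => ?_).symm
    change _ = w (pt (ψ.1 ≫ pullback.fst f g))
    rw [pt_comp]
  have hcov : (Set.univ : Set (Lifts π ωv)) = ⋃ φ, liftsIn π (P φ).U ωv := by
    ext ψ
    simp only [Set.mem_univ, true_iff, Set.mem_iUnion]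
    by_contra h
    push Not at h
    exact hv₁ ⟨pt ψ.1, fun hx => by
      obtain ⟨φ, hφ⟩ := Set.mem_iUnion.mp hx
      exact h φ hφ, ψ.pt_eq.trans hωv⟩
  have hd : Pairwise (Function.onFun Disjoint fun φ => liftsIn π (P φ).U ωv) := fun φ φ' hne =>
    Set.disjoint_left.mpr fun ψ h₁ h₂ => hv₂ ⟨pt ψ.1,
      Set.mem_iUnion₂.mpr ⟨(φ, φ'), hne, ⟨h₁, h₂⟩⟩, ψ.pt_eq.trans hωv⟩
  rw [h1, ← finsum_mem_univ, hcov, finsum_mem_iUnion hd fun φ => Set.toFinite _,
    finsum_eq_sum_of_fintype, fibreIntegral_eq f w (ω ≫ g) (hfin _) (by rw [pt_comp, hy]),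
    finsum_eq_sum_of_fintype]
  refine Finset.sum_congr rfl fun φ _ => ?_
  haveI := (P φ).finite
  obtain ⟨u, hu, huv⟩ := (Set.mem_iInter.mp hv φ).2
  obtain ⟨ψ, hψ⟩ := exists_lift_of_apply_eq ((P φ).U.ι ≫ π) ωv (huv.trans hωv.symm)
  rw [← fibreIntegral_open π (P φ).U (fun z => w (pullback.fst f g z)) ωv hωv,
    fibreIntegral_eq ((P φ).U.ι ≫ π) _ ωv (finite_fibre_of_isFinite _ _) hωv,
    finsum_eq_single _ ψ fun χ hne => absurd
      (hC' φ K ωv (by rw [hωv]; exact (Set.mem_iInter.mp hv φ).1) χ ψ) hne, hψ]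
  exact hu

/-- The level sets of the integral over an affine base are constructible. -/
theorem isConstructible_integral_of_levels [IsAffine Y] (f : X ⟶ Y) [LocallyQuasiFinite f]
    [LocallyOfFinitePresentation f] [QuasiCompact f] [QuasiSeparated f] {w : X → ℤ}
    (hw : ∀ n, IsConstructible {x : X | w x = n}) (n : ℤ) :
    IsConstructible {y : Y | MoreMor.fibreIntegral f w y = n} := by
  classical
  choose T hT hyT hTc using exists_cons_nbhd_integral_of_levels f hw
  obtain ⟨s, hs⟩ := exists_finite_cons_cover T hT hyT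
  have h : {y : Y | MoreMor.fibreIntegral f w y = n} =
      ⋃ x ∈ s.filter (fun x => MoreMor.fibreIntegral f w x = n), T x := by
    ext z
    constructor
    · intro hz
      obtain ⟨x, hx, hzx⟩ := hs z
      exact Set.mem_iUnion₂.mpr ⟨x, Finset.mem_filter.mpr ⟨hx, (hTc x z hzx).symm.trans hz⟩, hzx⟩
    · intro h
      obtain ⟨x, hx, hzx⟩ := Set.mem_iUnion₂.mp h
      exact (hTc x z hzx).trans (Finset.mem_filter.mp hx).2
  rw [h]
  exact IsConstructible.biUnion (Finset.finite_toSet _) fun x _ => hT x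

end Groth.L20.Weight
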