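import Groth.Agent.L20.Weight.Criterion
import Groth.Agent.L20.Weight.IntegralLevels
import Groth.Agent.L19.Limit.Descend
import Groth.Agent.L23.QFDescent

/-!
# Descent of weightings along limits
-/

universe u

open CategoryTheory CategoryTheory.Limits AlgebraicGeometry TopologicalSpace Topology

namespace Groth.L20.Weight

set_option linter.style.haveILetI false
set_option backward.isDefEq.respectTransparency.types false

/-- Transport of a finite open of a base change along a cartesian square. -/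
theorem transport {X Y V X' Y' : Scheme.{u}} {f : X ⟶ Y} {f' : X' ⟶ Y'} {q : X' ⟶ X} {b : Y' ⟶ Y}
    (hc : IsPullback q f' f b) (g : V ⟶ Y) (U : (pullback f g).Opens)
    [IsFinite (U.ι ≫ pullback.snd f g)] :
    let g' := pullback.fst b g
    let h := pullback.snd b g
    ∃ (U' : (pullback f' g').Opens) (m : U'.toScheme ⟶ U.toScheme),
      IsFinite (U'.ι ≫ pullback.snd f' g') ∧
      IsPullback m (U'.ι ≫ pullback.snd f' g') (U.ι ≫ pullback.snd f g) h ∧
      U'.ι ≫ pullback.fst f' g' ≫ q = m ≫ U.ι ≫ pullback.fst f g ∧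
      (∀ (x' : X') (u : U), pullback.fst f g (U.ι u) = q x' →
        ∃ u' : U', pullback.fst f' g' (U'.ι u') = x' ∧ m u' = u) := by
  intro g' h
  have hw : (pullback.fst f' g' ≫ q) ≫ f = (pullback.snd f' g' ≫ h) ≫ g := by
    rw [Category.assoc, hc.w, reassoc_of% (pullback.condition (f := f') (g := g')), Category.assoc,
      ← pullback.condition (f := b) (g := g)]
  let μ : pullback f' g' ⟶ pullback f g := pullback.lift (pullback.fst f' g' ≫ q) (pullback.snd f' g' ≫ h) hw
  have hμ1 : μ ≫ pullback.fst f g = pullback.fst f' g' ≫ q := pullback.lift_fst _ _ _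
  have hμ2 : μ ≫ pullback.snd f g = pullback.snd f' g' ≫ h := pullback.lift_snd _ _ _
  -- the square over `h`
  have sq2 : IsPullback μ (pullback.snd f' g') (pullback.snd f g) h := by
    refine IsPullback.of_right ?_ hμ2 (IsPullback.of_hasPullback f g)
    rw [hμ1]
    have h0 := (IsPullback.of_hasPullback f' g').paste_horiz hc
    rw [pullback.condition (f := b) (g := g)] at h0
    exact h0
  -- the square over `q`
  have sq1 : IsPullback μ (pullback.fst f' g') (pullback.fst f g) q := by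
    refine IsPullback.of_right ?_ hμ1 (IsPullback.of_hasPullback f g).flip
    rw [hμ2]
    have h0 := ((IsPullback.of_hasPullback f' g').flip.paste_horiz (IsPullback.of_hasPullback b g).flip)
    rw [← hc.w] at h0
    exact h0
  have sq0 : IsPullback (μ ∣_ U) (μ ⁻¹ᵁ U).ι U.ι μ := isPullback_morphismRestrict μ U
  have sq3 : IsPullback (μ ∣_ U) ((μ ⁻¹ᵁ U).ι ≫ pullback.snd f' g') (U.ι ≫ pullback.snd f g) h :=
    sq0.paste_vert sq2
  refine ⟨μ ⁻¹ᵁ U, μ ∣_ U, MorphismProperty.of_isPullback (P := @IsFinite) sq3 inferInstance,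
    sq3, ?_, fun x' u hu => ?_⟩
  · rw [reassoc_of% sq0.w, hμ1]
  · obtain ⟨z, hz1, hz2⟩ := Scheme.exists_preimage_of_isPullback sq1 (U.ι u) x' hu
    have hzU : z ∈ μ ⁻¹ᵁ U := by
      change μ z ∈ U
      rw [hz1]
      exact u.2
    refine ⟨⟨z, hzU⟩, hz2, U.ι.isOpenEmbedding.injective ?_⟩
    rw [← Scheme.Hom.comp_apply, morphismRestrict_ι]
    exact hz1

/-- Finitely many pieces whose isolated loci cover the source. -/
theorem exists_finite_data {X Y : Scheme.{u}} [IsAffine X] [IsAffine Y] (f : X ⟶ Y)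
    [LocallyQuasiFinite f] [LocallyOfFinitePresentation f] :
    ∃ (κ : Type u) (_ : Finite κ) (V : κ → Scheme.{u}) (_ : ∀ k, IsAffine (V k))
      (g : ∀ k, V k ⟶ Y) (_ : ∀ k, Etale (g k)) (U : ∀ k, (pullback f (g k)).Opens)
      (_ : ∀ k, IsFinite ((U k).ι ≫ pullback.snd f (g k))) (C : ∀ k, Set (V k)),
      (∀ k (K : Type u) [Field K] [IsAlgClosed K] (ωK : Spec (CommRingCat.of K) ⟶ V k), pt ωK ∈ C k →
          ∀ φ ψ : Lifts ((U k).ι ≫ pullback.snd f (g k)) ωK, φ = ψ) ∧
      ∀ x : X, ∃ (k : κ) (u : U k), pullback.fst f (g k) ((U k).ι u) = x ∧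
        pullback.snd f (g k) ((U k).ι u) ∈ C k := by
  classical
  have hx : ∀ x : X, ∃ (V : Scheme.{u}) (_ : IsAffine V) (g : V ⟶ Y) (_ : Etale g)
      (U : (pullback f g).Opens) (_ : IsFinite (U.ι ≫ pullback.snd f g)) (C : Set V) (T : Set X),
      (∀ (K : Type u) [Field K] [IsAlgClosed K] (ωK : Spec (CommRingCat.of K) ⟶ V), pt ωK ∈ C →
          ∀ φ ψ : Lifts (U.ι ≫ pullback.snd f g) ωK, φ = ψ) ∧
      IsConstructible T ∧ x ∈ T ∧
      ∀ z ∈ T, ∃ u : U, pullback.fst f g (U.ι u) = z ∧ pullback.snd f g (U.ι u) ∈ C := by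
    intro x
    obtain ⟨Ω, _, _, V, _, g, _, ω, φ, P, hφ, -⟩ := exists_piece_at f x ⊤ trivial
    haveI := P.finite
    obtain ⟨C, hC, hωC, hC'⟩ := exists_constructible_single (P.U.ι ≫ pullback.snd f g) ω
      fun a b => (P.unique a).trans (P.unique b).symm
    haveI : IsAffine P.U.toScheme := isAffine_of_isAffineHom (P.U.ι ≫ pullback.snd f g)
    let j : P.U.toScheme ⟶ X := P.U.ι ≫ pullback.fst f g
    haveI : LocallyOfFinitePresentation j :=
      inferInstanceAs (LocallyOfFinitePresentation (P.U.ι ≫ pullback.fst f g))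
    refine ⟨V, inferInstance, g, inferInstance, P.U, P.finite, C,
      j '' ((P.U.ι ≫ pullback.snd f g) ⁻¹' C), hC',
      j.isConstructible_image ((P.U.ι ≫ pullback.snd f g).isConstructible_preimage hC),
      ⟨pt P.φU.1, ?_, ?_⟩, ?_⟩
    · change (P.U.ι ≫ pullback.snd f g) _ ∈ C
      rw [P.φU.pt_eq]
      exact hωC
    · rw [← pt_comp, show P.φU.1 ≫ j = φ.1 from P.hφU, hφ]
    · rintro z ⟨u, hu, rfl⟩
      exact ⟨u, rfl, hu⟩
  choose V hV g hg U hU C T hC hTc hxT hT using hx
  obtain ⟨s, hs⟩ := exists_finite_cons_cover T hTc hxT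
  refine ⟨↥s, inferInstance, fun k => V k.1, fun k => hV k.1, fun k => g k.1, fun k => hg k.1,
    fun k => U k.1, fun k => hU k.1, fun k => C k.1, fun k => hC k.1, fun z => ?_⟩
  obtain ⟨x, hx, hz⟩ := hs z
  obtain ⟨u, hu1, hu2⟩ := hT x z hz
  exact ⟨⟨x, hx⟩, u, hu1, hu2⟩

/-- A function with constructible levels pulled back from a stage, with finitely many values. -/
theorem exists_fun_stage {J : Type u} [Category.{u} J] [IsCofiltered J] {E : J ⥤ Scheme.{u}}
    {c : Cone E} [∀ {i j} (a : i ⟶ j), IsAffineHom (E.map a)] (hc : IsLimit c) [∀ j, IsAffine (E.obj j)]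
    (j₀ : J) (w : c.pt → ℤ) (N : Finset ℤ) (hN : ∀ x, w x ∈ N)
    (hlev : ∀ n, IsConstructible {x : c.pt | w x = n}) :
    ∃ (j : J) (_ : j ⟶ j₀) (w' : E.obj j → ℤ), (∀ n, IsConstructible {z : E.obj j | w' z = n}) ∧
      (Set.range w').Finite ∧ ∀ x, w' (c.π.app j x) = w x := by
  classical
  choose i hi Z hZ hZw using fun n => Groth.L19.Limit.exists_isConstructible_preimage_eq hc j₀ _ (hlev n)
  obtain ⟨j, hj⟩ := IsCofiltered.inf_objs_exists (insert j₀ (N.image i))
  let a : ∀ n : N, j ⟶ i n.1 := fun n =>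
    (hj (Finset.mem_insert_of_mem (Finset.mem_image_of_mem i n.2))).some
  let S : N → Set (E.obj j) := fun n => E.map (a n) ⁻¹' Z n.1
  have hS : ∀ n, IsConstructible (S n) := fun n => (E.map (a n)).isConstructible_preimage (hZ n.1)
  let w' : E.obj j → ℤ := fun z => ∑ n : N, if z ∈ S n then n.1 else 0
  let atom : Finset N → Set (E.obj j) := fun s =>
    ⋂ n : N, if n ∈ s then S n else (S n)ᶜ
  have hmem : ∀ z, z ∈ atom (Finset.univ.filter fun n => z ∈ S n) := fun z => by
    refine Set.mem_iInter.mpr fun n => ?_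
    by_cases h : z ∈ S n <;> simp [h]
  have hw' : ∀ z, w' z = ∑ n ∈ Finset.univ.filter (fun n : N => z ∈ S n), n.1 := fun z => by
    rw [Finset.sum_filter]
  have hatom : ∀ s z, z ∈ atom s → Finset.univ.filter (fun n => z ∈ S n) = s := fun s z hz => by
    ext n
    have := Set.mem_iInter.mp hz n
    by_cases h : n ∈ s
    · simp only [if_pos h] at this
      simp [h, this]
    · simp only [if_neg h] at this
      simp [h, show z ∉ S n from this]
  refine ⟨j, (hj (Finset.mem_insert_self _ _)).some, w', fun n => ?_, ?_, fun x => ?_⟩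
  · have e : {z | w' z = n} = ⋃ s ∈ {s : Finset N | ∑ m ∈ s, m.1 = n}, atom s := by
      ext z
      constructor
      · intro hz
        exact Set.mem_iUnion₂.mpr ⟨_, (hw' z).symm.trans hz, hmem z⟩
      · intro hz
        obtain ⟨s, hs, hzs⟩ := Set.mem_iUnion₂.mp hz
        change w' z = n
        rw [hw', hatom s z hzs]
        exact hs
    rw [e]
    refine IsConstructible.biUnion (Set.toFinite _) fun s _ => IsConstructible.iInter fun m => ?_
    split_ifs
    · exact hS m
    · exact (hS m).compl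
  · refine (Set.finite_range fun s : Finset N => ∑ m ∈ s, m.1).subset ?_
    rintro _ ⟨z, rfl⟩
    exact ⟨_, (hw' z).symm⟩
  · have key : ∀ n : N, c.π.app j x ∈ S n ↔ n.1 = w x := fun n => by
      have h1 : x ∈ (c.π.app (i n.1) ⁻¹' Z n.1 : Set c.pt) ↔ w x = n.1 := by rw [hZw]; rfl
      rw [eq_comm, ← h1]
      change E.map (a n) (c.π.app j x) ∈ Z n.1 ↔ _
      rw [← Scheme.Hom.comp_apply, c.w]
      rfl
    change ∑ n : N, _ = _
    rw [Finset.sum_eq_single (⟨w x, hN x⟩ : N)]
    · rw [if_pos ((key _).mpr rfl)]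
    · intro n _ hn
      rw [if_neg fun h => hn (Subtype.ext ((key n).mp h))]
    · intro h
      exact absurd (Finset.mem_univ _) h

variable {I : Type u} [SmallCategory I] [IsCofiltered I] {D : I ⥤ Scheme.{u}} [∀ i, IsAffine (D.obj i)]

/-- Descent for a function already coming from the stage. -/
theorem exists_isWeighting_stage (c : Cone D) (hc : IsLimit c) {i₀ : I} {X₀ X : Scheme.{u}} [IsAffine X₀]
    (f₀ : X₀ ⟶ D.obj i₀) [LocallyQuasiFinite f₀] [LocallyOfFinitePresentation f₀]
    (f : X ⟶ c.pt) (p : X ⟶ X₀) (hX : IsPullback p f f₀ (c.π.app i₀))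
    (w₀ : X₀ → ℤ) (hlev : ∀ n, IsConstructible {z : X₀ | w₀ z = n})
    (hw : MoreMor.IsWeighting f (fun x => w₀ (p x))) :
    ∃ (j : I) (a : j ⟶ i₀), MoreMor.IsWeighting (pullback.fst (D.map a) f₀)
      (fun z => w₀ (pullback.snd (D.map a) f₀ z)) := by
  classical
  haveI : ∀ {i j} (a : i ⟶ j), IsAffineHom (D.map a) := fun a => isAffineHom_of_isAffine _
  haveI : LocallyQuasiFinite f := MorphismProperty.of_isPullback (P := @LocallyQuasiFinite) hX inferInstance
  haveI : LocallyOfFiniteType f := MorphismProperty.of_isPullback (P := @LocallyOfFiniteType) hX inferInstance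
  obtain ⟨κ, _, V, _, g, _, U, _, C, hC, hcov⟩ := exists_finite_data f₀
  haveI := Fintype.ofFinite κ
  let F : ∀ k, V k → ℤ := fun k => MoreMor.fibreIntegral ((U k).ι ≫ pullback.snd f₀ (g k))
    (fun u => w₀ (pullback.fst f₀ (g k) ((U k).ι u)))
  have hFlev : ∀ k n, IsConstructible {v | F k v = n} := fun k n => by
    haveI : IsAffine (U k).toScheme := isAffine_of_isAffineHom ((U k).ι ≫ pullback.snd f₀ (g k))
    exact isConstructible_integral_of_levels ((U k).ι ≫ pullback.snd f₀ (g k))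
      (w := fun u => w₀ (pullback.fst f₀ (g k) ((U k).ι u)))
      (fun m => ((U k).ι ≫ pullback.fst f₀ (g k)).isConstructible_preimage (hlev m)) n
  have hFfin : ∀ k, (Set.range (F k)).Finite := fun k => by
    obtain ⟨s, hs⟩ := exists_finite_cons_cover (fun v => {v' | F k v' = F k v}) (fun v => hFlev k _)
      (fun v => rfl)
    refine (s.finite_toSet.image (F k)).subset ?_
    rintro _ ⟨v, rfl⟩
    obtain ⟨x, hx, hvx⟩ := hs v
    exact ⟨x, hx, hvx.symm⟩
  -- in the limit all the integrals are locally constant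
  have hLC : ∀ k, IsLocallyConstant (fun v => F k (pullback.snd (c.π.app i₀) (g k) v)) := by
    intro k
    obtain ⟨U', m, hU', hsq, hm, -⟩ := transport hX (g k) (U k)
    haveI := hU'
    have h := isLocallyConstant_integral hw (pullback.fst (c.π.app i₀) (g k)) U'
    refine Eq.mp (congrArg IsLocallyConstant (funext fun v => ?_)) h
    refine Eq.trans ?_ (fibreIntegral_baseChange ((U k).ι ≫ pullback.snd f₀ (g k)) _ m
      (pullback.snd (c.π.app i₀) (g k)) hsq
      (fun u => w₀ (pullback.fst f₀ (g k) ((U k).ι u))) v (finite_fibre_of_isFinite _ _))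
    congr 1
    funext u
    simp only [← Scheme.Hom.comp_apply, Category.assoc, hm]
  -- descend
  have hst : ∀ q : (k : κ) × ↥(hFfin k).toFinset, ∃ (j : I) (a : j ⟶ i₀),
      IsOpen ((pullback.snd (D.map a) (g q.1)) ⁻¹' {v | F q.1 v = q.2.1}) := by
    rintro ⟨k, n, hn⟩
    have hcs : ∀ {j : I} (a : j ⟶ i₀), CompactSpace ↥(pullback (D.map a) (g k)) := fun a => by
      haveI : IsAffineHom (pullback.snd (D.map a) (g k)) :=
        MorphismProperty.pullback_snd (P := @IsAffineHom) _ _ inferInstance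
      exact QuasiCompact.compactSpace_of_compactSpace (pullback.snd (D.map a) (g k))
    haveI : ∀ j : Over i₀, CompactSpace ((Groth.L19.Limit.bcDiagram D (g k)).obj j) := fun j =>
      hcs j.hom
    let j₀ : Over i₀ := Over.mk (𝟙 i₀)
    obtain ⟨j, φ, hj⟩ := Groth.L19.Limit.exists_isOpen
      (Groth.L19.Limit.isLimitBcCone (g k) hc) (i := j₀)
      (Z := pullback.snd (D.map j₀.hom) (g k) ⁻¹' {v | F k v = n})
      ((pullback.snd (D.map j₀.hom) (g k)).isConstructible_preimage (hFlev k n)).isLocallyConstructible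
      (by
        have e : (Groth.L19.Limit.bcCone D c (g k)).π.app j₀ ≫ pullback.snd (D.map j₀.hom) (g k) =
            pullback.snd (c.π.app i₀) (g k) :=
          (pullback.lift_snd _ _ _).trans (Category.comp_id _)
        have h := (hLC k).isOpen_fiber n
        rw [← e] at h
        exact h)
    refine ⟨j.left, j.hom, ?_⟩
    have e : (Groth.L19.Limit.bcDiagram D (g k)).map φ ≫ pullback.snd (D.map j₀.hom) (g k) =
        pullback.snd (D.map j.hom) (g k) :=
      (pullback.lift_snd _ _ _).trans (Category.comp_id _)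
    rw [← e]
    exact hj
  choose jq aq hopen using hst
  haveI : ∀ k, Fintype ↥(hFfin k).toFinset := fun k => inferInstance
  obtain ⟨j, a, b, hab⟩ : ∃ (j : I) (a : j ⟶ i₀) (b : ∀ q, j ⟶ jq q), ∀ q, b q ≫ aq q = a := by
    obtain ⟨j, a, b, h⟩ := IsCofiltered.wideCospan aq
    exact ⟨j, a, b, h⟩
  refine ⟨j, a, ?_⟩
  let fj := pullback.fst (D.map a) f₀
  haveI : LocallyQuasiFinite fj := MorphismProperty.pullback_fst _ _ inferInstance
  haveI : LocallyOfFiniteType fj := MorphismProperty.pullback_fst _ _ inferInstance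
  refine isWeighting_of_pieces fun Ω _ _ φ₀ => ?_
  obtain ⟨k, u, hux, huC⟩ := hcov (pullback.snd (D.map a) f₀ (pt φ₀))
  obtain ⟨U', m, hU', hsq, hm, hlift⟩ :=
    transport (IsPullback.of_hasPullback (D.map a) f₀).flip (g k) (U k)
  obtain ⟨u', hu'x, hu'u⟩ := hlift (pt φ₀) u hux
  let g' := pullback.fst (D.map a) (g k)
  haveI : Etale g' := MorphismProperty.pullback_fst _ _ inferInstance
  let e : U'.toScheme ⟶ pullback (D.map a) f₀ := U'.ι ≫ pullback.fst fj g'
  haveI : LocallyQuasiFinite e := inferInstanceAs (LocallyQuasiFinite (U'.ι ≫ pullback.fst fj g'))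
  obtain ⟨ψ, hψ⟩ := exists_lift_of_apply_eq e φ₀ hu'x
  let π' := U'.ι ≫ pullback.snd fj g'
  let ω := ψ.1 ≫ π'
  have hωg : ω ≫ g' = φ₀ ≫ fj := by
    rw [← ψ.2]
    simp only [ω, π', e, Category.assoc, pullback.condition]
  have hptω : pullback.snd (D.map a) (g k) (pt ω) ∈ C k := by
    rw [pt_comp, hψ]
    change pullback.snd (D.map a) (g k) ((U'.ι ≫ pullback.snd fj g') u') ∈ C k
    rw [← Scheme.Hom.comp_apply, ← hsq.w, Scheme.Hom.comp_apply, hu'u, Scheme.Hom.comp_apply]
    exact huC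
  let P : Piece fj g' ω φ₀ :=
    { U := U'
      finite := hU'
      φU := ⟨ψ.1, rfl⟩
      hφU := ψ.2
      unique := fun χ => (liftsPullbackEquiv hsq ω).injective
        (hC k Ω (ω ≫ pullback.snd (D.map a) (g k)) (by rw [pt_comp]; exact hptω) _ _) }
  refine ⟨_, g', inferInstance, ω, hωg, P, ?_⟩
  have heq : (MoreMor.fibreIntegral (P.U.ι ≫ pullback.snd fj g')
      (fun z => w₀ (pullback.snd (D.map a) f₀ (pullback.fst fj g' (P.U.ι z))))) =
      fun v => F k (pullback.snd (D.map a) (g k) v) := by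
    funext v
    refine Eq.trans ?_ (fibreIntegral_baseChange ((U k).ι ≫ pullback.snd f₀ (g k)) _ m
      (pullback.snd (D.map a) (g k)) hsq
      (fun u => w₀ (pullback.fst f₀ (g k) ((U k).ι u))) v (finite_fibre_of_isFinite _ _))
    congr 1
    funext z
    simp only [← Scheme.Hom.comp_apply, Category.assoc]
    exact congrArg (fun a : U'.toScheme ⟶ X₀ => w₀ (a z)) hm
  rw [heq, IsLocallyConstant.iff_isOpen_fiber]
  intro n
  by_cases hn : n ∈ (hFfin k).toFinset
  · have h := (hopen ⟨k, n, hn⟩).preimage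
      (pullback.map (D.map a) (g k) (D.map (aq ⟨k, n, hn⟩)) (g k) (D.map (b ⟨k, n, hn⟩)) (𝟙 _) (𝟙 _)
        (by rw [Category.comp_id, ← D.map_comp, hab]) (by simp)).continuous
    rw [← Set.preimage_comp, ← TopCat.coe_comp, ← Scheme.Hom.comp_base] at h
    simp only [pullback.map, pullback.lift_snd, Category.comp_id] at h
    exact h
  · convert isOpen_empty
    ext v
    simp only [Set.mem_preimage, Set.mem_singleton_iff, Set.mem_empty_iff_false, iff_false]
    exact fun h => hn ((hFfin k).mem_toFinset.mpr ⟨_, h⟩)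

end Groth.L20.Weight
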