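import Groth.Agent.L20.Weight.Basic

/-!
# Basic properties of weightings
-/

universe u

open CategoryTheory CategoryTheory.Limits AlgebraicGeometry TopologicalSpace

namespace Groth.L20.Weight

set_option linter.style.haveILetI false
set_option backward.isDefEq.respectTransparency.types false

variable {X Y T V : Scheme.{u}}

/-- Fibre integrals only depend on the open image. -/
theorem fibreIntegral_openImmersion {U : Scheme.{u}} (j : U ⟶ T) [IsOpenImmersion j] (p : T ⟶ V)
    (π : U ⟶ V) (hπ : j ≫ p = π) [IsFinite π] (w : T → ℤ) (v : V) :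
    MoreMor.fibreIntegral π (fun x => w (j x)) v =
      MoreMor.fibreIntegral (j.opensRange.ι ≫ p) (fun x => w (j.opensRange.ι x)) v := by
  have hsq : IsPullback j.isoOpensRange.hom π (j.opensRange.ι ≫ p) (𝟙 V) :=
    IsPullback.of_horiz_isIso ⟨by rw [Scheme.Hom.isoOpensRange_hom_ι_assoc, hπ, Category.comp_id]⟩
  have hfin : IsFinite (j.opensRange.ι ≫ p) := by
    rw [← MorphismProperty.cancel_left_of_respectsIso @IsFinite j.isoOpensRange.hom,
      Scheme.Hom.isoOpensRange_hom_ι_assoc, hπ]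
    infer_instance
  have h := fibreIntegral_baseChange (j.opensRange.ι ≫ p) π j.isoOpensRange.hom (𝟙 V) hsq
    (fun x => w (j.opensRange.ι x)) v (finite_fibre_of_isFinite _ _)
  rw [show (𝟙 V : V ⟶ V) v = v from rfl] at h
  rw [← h]
  congr 1
  funext x
  congr 1
  rw [← Scheme.Hom.comp_apply, Scheme.Hom.isoOpensRange_hom_ι]

/-- The general form of the defining property of a weighting. -/
theorem isLocallyConstant_of_openImmersion {f : X ⟶ Y} [LocallyQuasiFinite f] [LocallyOfFiniteType f]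
    {w : X → ℤ} (hw : MoreMor.IsWeighting f w) {U : Scheme.{u}} (k : V ⟶ Y) (j : U ⟶ X) (π : U ⟶ V)
    (h : j ≫ f = π ≫ k) [IsOpenImmersion (pullback.lift j π h)] [IsFinite π] :
    IsLocallyConstant (MoreMor.fibreIntegral π fun u => w (j u)) := by
  let J := pullback.lift j π h
  haveI : IsFinite (J.opensRange.ι ≫ pullback.snd f k) := by
    rw [← MorphismProperty.cancel_left_of_respectsIso @IsFinite J.isoOpensRange.hom,
      Scheme.Hom.isoOpensRange_hom_ι_assoc, pullback.lift_snd]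
    infer_instance
  have heq : (MoreMor.fibreIntegral π fun u => w (j u)) =
      MoreMor.fibreIntegral (J.opensRange.ι ≫ pullback.snd f k)
        (fun u => w (pullback.fst f k (J.opensRange.ι u))) := by
    funext v
    rw [← fibreIntegral_openImmersion J (pullback.snd f k) π (pullback.lift_snd _ _ _)
      (fun z => w (pullback.fst f k z)) v]
    congr 1
    funext u
    congr 1
    rw [← Scheme.Hom.comp_apply, pullback.lift_fst]
  rw [heq]
  exact isLocallyConstant_integral hw k J.opensRange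

variable {Ω : Type u} [Field Ω]

/-- A positive function has positive sum over an inhabited finite set. -/
theorem le_finsum_mem {α : Type*} {s : Set α} (hs : s.Finite) (w : α → ℤ) (hpos : ∀ a, 0 < w a)
    {a : α} (ha : a ∈ s) : w a ≤ ∑ᶠ i ∈ s, w i := by
  rw [finsum_mem_eq_finite_toFinset_sum _ hs]
  exact Finset.single_le_sum (fun i _ => (hpos i).le) (hs.mem_toFinset.mpr ha)

/-- An étale neighbourhood isolating a point of a locally quasi-finite morphism. -/
theorem exists_piece_at (f : X ⟶ Y) [LocallyQuasiFinite f] [LocallyOfFiniteType f] (x : X)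
    (O : X.Opens) (hx : x ∈ O) :
    ∃ (Ω : Type u) (_ : Field Ω) (_ : IsAlgClosed Ω) (V : Scheme.{u}) (_ : IsAffine V) (g : V ⟶ Y)
      (_ : Etale g) (ω : Spec (CommRingCat.of Ω) ⟶ V) (φ : Lifts f (ω ≫ g)) (P : Piece f g ω φ.1),
      pt φ.1 = x ∧ P.U ≤ pullback.fst f g ⁻¹ᵁ O := by
  obtain ⟨Ω, _, _, φ₀, hφ₀⟩ := exists_geomPoint x
  obtain ⟨V, _, g, _, ω, hω, P, hP⟩ := exists_piece f (φ₀ ≫ f) ⟨φ₀, rfl⟩ O (hφ₀ ▸ hx)
  exact ⟨Ω, _, inferInstance, V, inferInstance, g, inferInstance, ω, ⟨φ₀, hω.symm⟩, P, hφ₀, hP⟩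

/-- Near the base point of a piece the integral is the weight of its point. -/
theorem Piece.exists_nbhd [IsAlgClosed Ω] {f : X ⟶ Y} {g : V ⟶ Y} [Etale g]
    {ω : Spec (CommRingCat.of Ω) ⟶ V} {φ : Lifts f (ω ≫ g)} (P : Piece f g ω φ.1) {w : X → ℤ}
    (hw : MoreMor.IsWeighting f w) :
    ∃ N : V.Opens, pt ω ∈ N ∧ ∀ v ∈ N,
      MoreMor.fibreIntegral (P.U.ι ≫ pullback.snd f g)
        (fun u => w (pullback.fst f g (P.U.ι u))) v = w (pt φ.1) :=
  ⟨⟨_, (hw V g P.U P.finite).isOpen_fiber (w (pt φ.1))⟩, P.integral_eq w, fun _ hv => hv⟩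

/-- The point of a piece. -/
theorem Piece.exists_point {f : X ⟶ Y} {g : V ⟶ Y} {ω : Spec (CommRingCat.of Ω) ⟶ V}
    {φ : Lifts f (ω ≫ g)} (P : Piece f g ω φ.1) :
    ∃ u ∈ P.U, pullback.snd f g u = pt ω ∧ pullback.fst f g u = pt φ.1 :=
  ⟨pt (P.φU.1 ≫ P.U.ι), by rw [pt_comp]; exact (pt P.φU.1).2,
    by rw [← pt_comp, Category.assoc, P.φU.2], by rw [← pt_comp, Category.assoc, P.hφU]⟩

end Groth.L20.Weight
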