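import Groth.Agent.L20.Weight.Sep
import Groth.Agent.L20.Chevalley.Reduction
import Groth.Agent.L22.AffineDescent
import Groth.Agent.S1419
import Groth.Agent.S1428
import Groth.Agent.S7185

/-!
# The maximum locus of the fibre integral of a positive weighting is affine
-/

universe u

open CategoryTheory CategoryTheory.Limits AlgebraicGeometry TopologicalSpace

namespace Groth.L20.Weight

set_option linter.style.haveILetI false
set_option backward.isDefEq.respectTransparency.types false

variable {X Y T V : Scheme.{u}}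

theorem fibreIntegral_nonneg (f : X ⟶ Y) [LocallyQuasiFinite f] (w : X → ℤ) (hpos : ∀ x, 0 < w x)
    (y : Y) (hfin : (f ⁻¹' {y}).Finite) : 0 ≤ MoreMor.fibreIntegral f w y := by
  obtain ⟨Ω, _, _, ω, rfl⟩ := exists_geomPoint y
  rw [fibreIntegral_eq f w ω hfin rfl]
  exact finsum_nonneg fun φ => (hpos _).le

theorem le_fibreIntegral (f : X ⟶ Y) [LocallyQuasiFinite f] (w : X → ℤ) (hpos : ∀ x, 0 < w x)
    (x : X) (hfin : (f ⁻¹' {f x}).Finite) : w x ≤ MoreMor.fibreIntegral f w (f x) := by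
  obtain ⟨Ω, _, _, ω, hω⟩ := exists_geomPoint (f x)
  haveI := finite_lifts f ω (hω ▸ hfin)
  rw [fibreIntegral_eq f w ω (hω ▸ hfin) hω, ← finsum_mem_univ]
  obtain ⟨φ, rfl⟩ := exists_lift_of_apply_eq f ω hω.symm
  exact le_finsum_mem Set.finite_univ (fun φ : Lifts f ω => w (pt φ.1)) (fun φ => hpos _)
    (Set.mem_univ φ)

theorem fibreIntegral_eq_zero_of_notMem_range (f : X ⟶ Y) (w : X → ℤ) (y : Y)
    (hy : y ∉ Set.range f) : MoreMor.fibreIntegral f w y = 0 := by
  haveI : IsEmpty {u : X // f u = y} := ⟨fun u => hy ⟨u.1, u.2⟩⟩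
  exact finsum_of_isEmpty _

/-- The integral is additive for a decomposition into two disjoint opens. -/
theorem fibreIntegral_split (π : T ⟶ V) [LocallyQuasiFinite π] (U R : T.Opens)
    [IsFinite (U.ι ≫ π)] (hR : (R : Set T) = (U : Set T)ᶜ) (w : T → ℤ) (v : V)
    (hfin : (π ⁻¹' {v}).Finite) :
    MoreMor.fibreIntegral π w v = MoreMor.fibreIntegral (U.ι ≫ π) (fun u => w (U.ι u)) v +
      MoreMor.fibreIntegral (R.ι ≫ π) (fun u => w (R.ι u)) v := by
  classical
  obtain ⟨Ω, _, _, ω, rfl⟩ := exists_geomPoint v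
  haveI := finite_lifts π ω hfin
  have hfinR : ((R.ι ≫ π) ⁻¹' {pt ω}).Finite :=
    (hfin.preimage R.ι.isOpenEmbedding.injective.injOn).subset fun x hx => hx
  haveI := finite_lifts (R.ι ≫ π) ω hfinR
  rw [fibreIntegral_eq π w ω hfin rfl, fibreIntegral_open π U w ω rfl,
    fibreIntegral_eq (R.ι ≫ π) _ ω hfinR rfl]
  have h : ∑ᶠ φ : Lifts (R.ι ≫ π) ω, w (R.ι (pt φ.1)) = ∑ᶠ ψ ∈ liftsIn π R ω, w (pt ψ.1) := by
    rw [← finsum_subtype_eq_finsum_cond]
    refine finsum_eq_of_bijective _ (liftsOpenEquiv π R ω).bijective fun φ => ?_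
    change _ = w (pt (φ.1 ≫ R.ι))
    rw [pt_comp]
  have hu : (Set.univ : Set (Lifts π ω)) = liftsIn π U ω ∪ liftsIn π R ω := by
    ext ψ
    simp only [Set.mem_univ, Set.mem_union, true_iff]
    by_cases hψ : pt ψ.1 ∈ U
    · exact Or.inl hψ
    · refine Or.inr ?_
      change pt ψ.1 ∈ (R : Set T)
      rw [hR]
      exact hψ
  have hd : Disjoint (liftsIn π U ω) (liftsIn π R ω) := Set.disjoint_left.mpr fun ψ hU hRψ => by
    have : pt ψ.1 ∈ (R : Set T) := hRψ
    rw [hR] at this
    exact this hU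
  rw [h, ← finsum_mem_union hd (Set.toFinite _) (Set.toFinite _), ← hu, finsum_mem_univ]

/-- An étale neighbourhood on which the maximum locus becomes affine, given the smaller cases. -/
theorem exists_affine_nbhd [IsAffine X] [IsAffine Y] (f : X ⟶ Y) [LocallyQuasiFinite f]
    [LocallyOfFiniteType f] [QuasiCompact f] (w : X → ℤ) (hw : MoreMor.IsWeighting f w)
    (hpos : ∀ x, 0 < w x) (n : ℤ) (hmax : ∀ y, MoreMor.fibreIntegral f w y ≤ n) (E : Y.Opens)
    (hE : (E : Set Y) = {y | MoreMor.fibreIntegral f w y = n})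
    (IH : ∀ {X' Y' : Scheme.{u}} [IsAffine X'] [IsAffine Y'] (f' : X' ⟶ Y') [LocallyQuasiFinite f']
      [LocallyOfFiniteType f'] [QuasiCompact f'] (w' : X' → ℤ), MoreMor.IsWeighting f' w' →
      (∀ x, 0 < w' x) → ∀ m : ℤ, 0 ≤ m → m < n → (∀ y, MoreMor.fibreIntegral f' w' y ≤ m) →
        ∀ E' : Y'.Opens, (E' : Set Y') = {y | MoreMor.fibreIntegral f' w' y = m} → IsAffineOpen E')
    (x : X) :
    ∃ (N : Scheme.{u}) (_ : IsAffine N) (h : N ⟶ Y) (_ : Etale h), f x ∈ Set.range h ∧
      IsAffineOpen (h ⁻¹ᵁ E) := by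
  obtain ⟨Ω, _, _, V, _, g, _, ω, φ, P, hφ, -⟩ := exists_piece_at f x ⊤ trivial
  obtain ⟨N₀, hωN₀, hN₀⟩ := P.exists_nbhd hw
  obtain ⟨b, hbN, hωb⟩ := (isAffineOpen_top V).exists_basicOpen_le (V := N₀) ⟨pt ω, hωN₀⟩ trivial
  let N := V.basicOpen b
  haveI : IsAffine N.toScheme := (isAffineOpen_top V).basicOpen b
  let h : N.toScheme ⟶ Y := N.ι ≫ g
  haveI : Etale h := inferInstanceAs (Etale (N.ι ≫ g))
  haveI : IsFinite (P.U.ι ≫ pullback.snd f g) := P.finite
  haveI : IsFinite ((bcMap f g N.ι ⁻¹ᵁ P.U).ι ≫ pullback.snd f h) :=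
    MorphismProperty.of_isPullback (P := @IsFinite) (isPullback_bcMap_restrict f g N.ι P.U) P.finite
  let π := pullback.snd f h
  let U := bcMap f g N.ι ⁻¹ᵁ P.U
  haveI : IsAffine (pullback f h) := inferInstance
  haveI : LocallyQuasiFinite π := MorphismProperty.pullback_snd f h inferInstance
  haveI : LocallyOfFiniteType π := MorphismProperty.pullback_snd f h inferInstance
  have hUc : IsClosed (U : Set ↑(pullback f h)) := isClosed_of_isFinite π U
  let R : (pullback f h).Opens := ⟨(U : Set ↑(pullback f h))ᶜ, hUc.isOpen_compl⟩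
  haveI : IsAffineHom R.ι := isAffineHom_of_isInducing R.ι R.ι.isOpenEmbedding.isInducing
    (by rw [Scheme.Opens.range_ι]; exact U.2.isClosed_compl)
  haveI : IsAffine R.toScheme := isAffine_of_isAffineHom R.ι
  let w₁ : ↑(pullback f h) → ℤ := fun z => w (pullback.fst f h z)
  have hw₁ : MoreMor.IsWeighting π w₁ :=
    Groth.Agent.S1419.result f w hw π (pullback.fst f h) h (IsPullback.of_hasPullback f h)
  have hwR : MoreMor.IsWeighting (R.ι ≫ π) fun u => w₁ (R.ι u) :=
    Groth.Agent.S7185.result π w₁ hw₁ R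
  have hint : ∀ v : N.toScheme, MoreMor.fibreIntegral f w (h v) =
      w x + MoreMor.fibreIntegral (R.ι ≫ π) (fun u => w₁ (R.ι u)) v := by
    intro v
    rw [← fibreIntegral_baseChange f π (pullback.fst f h) h (IsPullback.of_hasPullback f h) w v
      (f.finite_preimage_singleton _), fibreIntegral_split π U R rfl _ v (π.finite_preimage_singleton _)]
    congr 1
    rw [show MoreMor.fibreIntegral (U.ι ≫ π) (fun u => w (pullback.fst f h (U.ι u))) v = _ from
      fibreIntegral_bcMap f g N.ι P.U w v, ← hφ]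
    exact hN₀ _ (hbN v.2)
  have hxN : f x ∈ Set.range h := by
    obtain ⟨u, -, hu, hu'⟩ := P.exists_point
    refine ⟨⟨pt ω, hωb⟩, ?_⟩
    change g (pt ω) = _
    rw [← hu, ← Scheme.Hom.comp_apply, ← pullback.condition, Scheme.Hom.comp_apply, hu', hφ]
  refine ⟨N, inferInstance, h, inferInstance, hxN, ?_⟩
  have hm : 0 ≤ n - w x := by
    have h1 := le_fibreIntegral f w hpos x (f.finite_preimage_singleton _)
    linarith [hmax (f x)]
  refine IH (R.ι ≫ π) (fun u => w₁ (R.ι u)) hwR (fun u => hpos _) (n - w x) hm (by linarith [hpos x])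
    (fun v => by linarith [hmax (h v), hint v]) _ ?_
  ext v
  change h v ∈ (E : Set Y) ↔ _
  rw [hE, Set.mem_ofPred_eq, Set.mem_ofPred_eq, hint v]
  constructor <;> intro h <;> linarith

/-- Affineness of an open is local for étale neighbourhoods. -/
theorem isAffineOpen_of_etale_nbhds [IsAffine Y] (E : Y.Opens)
    (hN : ∀ y : Y, ∃ (N : Scheme.{u}) (_ : IsAffine N) (h : N ⟶ Y) (_ : Etale h),
      y ∈ Set.range h ∧ IsAffineOpen (h ⁻¹ᵁ E)) : IsAffineOpen E := by
  have hEc : IsCompact (E : Set Y) := by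
    choose N hN' h hh hy hE using hN
    obtain ⟨t, ht⟩ := isCompact_univ.elim_finite_subcover (fun y => Set.range (h y))
      (fun y => by haveI := hh y; exact (h y).isOpenMap.isOpen_range)
      (fun y _ => Set.mem_iUnion.mpr ⟨y, hy y⟩)
    have : (E : Set Y) = ⋃ y ∈ t, h y '' (h y ⁻¹ᵁ E : (N y).Opens) := by
      refine subset_antisymm (fun z hz => ?_) (Set.iUnion₂_subset fun y _ => ?_)
      · obtain ⟨y, hy, v, rfl⟩ := Set.mem_iUnion₂.mp (ht (Set.mem_univ z))
        exact Set.mem_iUnion₂.mpr ⟨y, hy, v, hz, rfl⟩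
      · rintro _ ⟨v, hv, rfl⟩
        exact hv
    rw [this]
    exact t.isCompact_biUnion fun y _ => (hE y).isCompact.image (h y).continuous
  haveI : CompactSpace E.toScheme := isCompact_iff_compactSpace.mp hEc
  suffices IsAffineHom E.ι from isAffine_of_isAffineHom E.ι
  haveI : QuasiCompact E.ι := quasiCompact_of_compactSpace E.ι
  refine IsZariskiLocalAtTarget.of_forall_exists_morphismRestrict fun y => ?_
  obtain ⟨N, _, h, _, hy, hE⟩ := hN y
  haveI := hE
  let W : Y.Opens := ⟨Set.range h, h.isOpenMap.isOpen_range⟩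
  refine ⟨W, hy, ?_⟩
  have hle : (⊤ : N.Opens) ≤ h ⁻¹ᵁ W := fun v _ => ⟨v, rfl⟩
  let k : N ⟶ W.toScheme := IsOpenImmersion.lift W.ι h (by rw [Scheme.Opens.range_ι]; exact subset_rfl)
  have hk : k ≫ W.ι = h := IsOpenImmersion.lift_fac _ _ _
  haveI : Etale (k ≫ W.ι) := by rw [hk]; infer_instance
  haveI : Etale k := MorphismProperty.of_postcomp (W' := @Etale) (W := @Etale) k W.ι inferInstance inferInstance
  haveI : Surjective k := ⟨by
    rintro ⟨z, v, rfl⟩
    refine ⟨v, W.ι.isOpenEmbedding.injective ?_⟩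
    rw [← Scheme.Hom.comp_apply, hk]
    rfl⟩
  haveI : QuasiCompact k := by
    haveI : QuasiCompact (k ≫ W.ι) := by rw [hk]; infer_instance
    exact QuasiCompact.of_comp k W.ι
  haveI : QuasiCompact (E.ι ∣_ W) :=
    MorphismProperty.of_isPullback (P := @QuasiCompact) (isPullback_morphismRestrict E.ι W).flip inferInstance
  have h1 := IsPullback.of_hasPullback (E.ι ∣_ W) k
  have h2 := h1.paste_horiz (isPullback_morphismRestrict E.ι W).flip
  rw [hk] at h2
  haveI : IsAffine (h ⁻¹ᵁ E).toScheme := hE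
  haveI : IsAffineHom (pullback.snd (E.ι ∣_ W) k) := by
    have h3 := (isPullback_morphismRestrict h E)
    rw [← h2.isoIsPullback_hom_snd _ _ h3]
    infer_instance
  exact Groth.L22.AffDesc.isAffineHom_of_isPullback h1

theorem isAffineOpen_max (n : ℕ) : ∀ {X Y : Scheme.{u}} [IsAffine X] [IsAffine Y] (f : X ⟶ Y)
    [LocallyQuasiFinite f] [LocallyOfFiniteType f] [QuasiCompact f] (w : X → ℤ),
    MoreMor.IsWeighting f w → (∀ x, 0 < w x) → (∀ y, MoreMor.fibreIntegral f w y ≤ n) →
      ∀ E : Y.Opens, (E : Set Y) = {y | MoreMor.fibreIntegral f w y = (n : ℤ)} → IsAffineOpen E := by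
  induction n using Nat.strong_induction_on with
  | _ n IH =>
    intro X Y _ _ f _ _ _ w hw hpos hmax E hE
    rcases Nat.eq_zero_or_pos n with hn | hn
    · have : E = ⊤ := by
        refine eq_top_iff.mpr fun y _ => ?_
        change y ∈ (E : Set Y)
        rw [hE, Set.mem_ofPred_eq]
        have := fibreIntegral_nonneg f w hpos y (f.finite_preimage_singleton _)
        have := hmax y
        omega
      exact this ▸ isAffineOpen_top Y
    by_cases hne : ∃ y : Y, MoreMor.fibreIntegral f w y = (n : ℤ)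
    swap
    · have : E = ⊥ := by
        refine eq_bot_iff.mpr fun y hy => ?_
        have : y ∈ (E : Set Y) := hy
        rw [hE] at this
        exact (hne ⟨y, this⟩).elim
      exact this ▸ isAffineOpen_bot Y
    haveI : IsSeparated f := inferInstance
    obtain ⟨hopen, hfinite⟩ := Groth.Agent.S1428.result f (fun y => f.finite_preimage_singleton y)
      w hw hpos n hmax hne
    obtain rfl : E = ⟨_, hopen⟩ := Opens.ext hE
    let f' := pullback.snd f f
    haveI : LocallyQuasiFinite f' := MorphismProperty.pullback_snd f f inferInstance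
    haveI : LocallyOfFiniteType f' := MorphismProperty.pullback_snd f f inferInstance
    let w' : ↑(pullback f f) → ℤ := fun z => w (pullback.fst f f z)
    have hw' : MoreMor.IsWeighting f' w' :=
      Groth.Agent.S1419.result f w hw f' (pullback.fst f f) f (IsPullback.of_hasPullback f f)
    have hint : ∀ x, MoreMor.fibreIntegral f' w' x = MoreMor.fibreIntegral f w (f x) := fun x =>
      fibreIntegral_baseChange f f' (pullback.fst f f) f (IsPullback.of_hasPullback f f) w x
        (f.finite_preimage_singleton _)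
    let E' : X.Opens := f ⁻¹ᵁ ⟨_, hopen⟩
    have hE' : (E' : Set X) = {x | MoreMor.fibreIntegral f' w' x = (n : ℤ)} := by
      ext x
      simp only [Set.mem_ofPred_eq, hint]
      rfl
    haveI hfE : IsFinite (f ∣_ ⟨_, hopen⟩) := hfinite
    have hsurj : Surjective (f ∣_ ⟨_, hopen⟩) := by
      refine ⟨fun y => ?_⟩
      have hy : y.1 ∈ Set.range f := by
        by_contra hy
        have h0 : MoreMor.fibreIntegral f w y.1 = (n : ℤ) := y.2
        rw [fibreIntegral_eq_zero_of_notMem_range f w _ hy] at h0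
        omega
      obtain ⟨x, hx⟩ := hy
      have hxE : f x ∈ (⟨_, hopen⟩ : Y.Opens) := hx ▸ y.2
      refine ⟨⟨x, hxE⟩, Subtype.ext ?_⟩
      rw [morphismRestrict_base_coe]
      exact hx
    haveI : IsAffine E'.toScheme := by
      refine isAffineOpen_of_etale_nbhds E' fun x => ?_
      obtain ⟨z, hz⟩ : ∃ z, f' z = x := ⟨pullback.diagonal f x, by
        rw [← Scheme.Hom.comp_apply, pullback.diagonal_snd]; rfl⟩
      subst hz
      exact exists_affine_nbhd f' w' hw' (fun z => hpos _) n (fun v => hint v ▸ hmax _) E' hE'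
        (fun f'' _ _ _ w'' hw'' hpos'' m hm hmn hmax'' E'' hE'' => by
          obtain ⟨k, rfl⟩ := Int.eq_ofNat_of_zero_le hm
          exact IH k (by omega) f'' w'' hw'' hpos'' hmax'' E'' hE'') z
    exact Groth.L20.Chevalley.isAffine_of_surjective_universallyClosed (f ∣_ ⟨_, hopen⟩)

end Groth.L20.Weight
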