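import Groth.Agent.L27.EtSite.Separation
import Mathlib.RingTheory.Etale.QuasiFinite
import Mathlib.FieldTheory.IntermediateField.Adjoin.Basic
import Mathlib.FieldTheory.IsAlgClosed.Basic

/-!
# Étale neighbourhoods isolating one geometric point of a quasi-finite algebra
-/

universe u

open TensorProduct

namespace Groth.L20.Weight

set_option linter.style.haveILetI false

section Eval

variable {R S Ω R' : Type u} [CommRing R] [CommRing S] [CommRing R'] [CommRing Ω] [Algebra R S]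
  [Algebra R R'] [Algebra R Ω]

/-- Evaluation of the base change at a pair of points. -/
noncomputable abbrev ev (χ : R' →ₐ[R] Ω) (ψ : S →ₐ[R] Ω) : R' ⊗[R] S →ₐ[R] Ω :=
  Algebra.TensorProduct.lift χ ψ fun _ _ => .all _ _

theorem ev_includeRight (χ : R' →ₐ[R] Ω) (ψ : S →ₐ[R] Ω) (s : S) :
    ev χ ψ ((Algebra.TensorProduct.includeRight : S →ₐ[R] R' ⊗[R] S) s) = ψ s := by
  simp [ev]

end Eval

variable {R S Ω : Type u} [CommRing R] [CommRing S] [Field Ω] [Algebra R S] [Algebra R Ω]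

/-- The points picked out by an idempotent of a finite piece are finitely many. -/
theorem finite_points {R' : Type u} [CommRing R'] [Algebra R R'] (χ : R' →ₐ[R] Ω) (e : R' ⊗[R] S)
    (he : Module.Finite R' (Localization.Away e)) :
    {ψ : S →ₐ[R] Ω | ev χ ψ e ≠ 0}.Finite := by
  letI := χ.toRingHom.toAlgebra
  haveI : IsScalarTower R R' Ω := IsScalarTower.of_algebraMap_eq fun r => (χ.commutes r).symm
  haveI : Finite (Localization.Away e →ₐ[R'] Ω) := inferInstance
  let F : {ψ : S →ₐ[R] Ω | ev χ ψ e ≠ 0} → (Localization.Away e →ₐ[R'] Ω) := fun ψ =>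
    IsLocalization.Away.liftAlgHom e
      (f := ({ toRingHom := (ev χ ψ.1).toRingHom
               commutes' := fun r => by simp [ev, RingHom.algebraMap_toAlgebra] } : R' ⊗[R] S →ₐ[R'] Ω))
      (Ne.isUnit ψ.2)
  refine Set.finite_coe_iff.mp (Finite.of_injective F fun ψ ψ' h => ?_)
  ext s
  have := congr($h (algebraMap (R' ⊗[R] S) (Localization.Away e) (1 ⊗ₜ s)))
  simpa [F, ev, IsLocalization.Away.lift_eq] using this

variable [IsAlgClosed Ω] [Algebra.FiniteType R S]

/-- One separation step. -/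
theorem exists_step {R' : Type u} [CommRing R'] [Algebra R R'] [Algebra.Etale R R']
    (χ : R' →ₐ[R] Ω) (e : R' ⊗[R] S) (hie : IsIdempotentElem e)
    (he : Module.Finite R' (Localization.Away e)) (φ ψ : S →ₐ[R] Ω)
    (hφ : ev χ φ e ≠ 0) (hψ : ev χ ψ e ≠ 0) (hne : φ ≠ ψ) :
    ∃ (R'' : Type u) (_ : CommRing R'') (_ : Algebra R R'') (_ : Algebra.Etale R R'')
      (χ'' : R'' →ₐ[R] Ω) (e'' : R'' ⊗[R] S), IsIdempotentElem e'' ∧
      Module.Finite R'' (Localization.Away e'') ∧ ev χ'' φ e'' ≠ 0 ∧ ev χ'' ψ e'' = 0 ∧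
      ∀ θ : S →ₐ[R] Ω, ev χ'' θ e'' ≠ 0 → ev χ θ e ≠ 0 := by
  letI := χ.toRingHom.toAlgebra
  haveI : IsScalarTower R R' Ω := IsScalarTower.of_algebraMap_eq fun r => (χ.commutes r).symm
  let A := Localization.Away e
  let E : ∀ θ : S →ₐ[R] Ω, R' ⊗[R] S →ₐ[R'] Ω := fun θ =>
    { toRingHom := (ev χ θ).toRingHom
      commutes' := fun r => by simp [ev, RingHom.algebraMap_toAlgebra] }
  let EA : ∀ θ : S →ₐ[R] Ω, ev χ θ e ≠ 0 → (A →ₐ[R'] Ω) := fun θ h =>
    IsLocalization.Away.liftAlgHom e (f := E θ) (Ne.isUnit h)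
  have hEA : ∀ θ h x, EA θ h (algebraMap (R' ⊗[R] S) A x) = ev χ θ x := fun θ h x => by
    simp [EA, E, IsLocalization.Away.lift_eq]
  let P : ∀ θ : S →ₐ[R] Ω, ev χ θ e ≠ 0 → PrimeSpectrum (A ⊗[R'] Ω) := fun θ h =>
    ⟨RingHom.ker (Algebra.TensorProduct.lift (EA θ h) (AlgHom.id R' Ω) fun _ _ => .all _ _),
      RingHom.ker_isPrime _⟩
  have hP : P φ hφ ≠ P ψ hψ := by
    intro h
    refine hne (AlgHom.ext fun s => ?_)
    have h1 : (algebraMap (R' ⊗[R] S) A (1 ⊗ₜ s)) ⊗ₜ[R'] (1 : Ω) - (1 : A) ⊗ₜ[R'] φ s ∈ (P φ hφ).asIdeal := by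
      simp [P, hEA, ev, RingHom.mem_ker]
    rw [h] at h1
    simp [P, hEA, ev, RingHom.mem_ker] at h1
    exact (sub_eq_zero.mp h1).symm
  haveI : Algebra.IsIntegral R' A := inferInstance
  obtain ⟨R'', iR'', iA'', iEt, χ', ε, hε, hε1, hε2⟩ :=
    Groth.L27.EtSite.exists_sep_idem R' A Ω (P φ hφ) (P ψ hψ) hP
  letI : Algebra R R'' := ((algebraMap R' R'').comp (algebraMap R R')).toAlgebra
  haveI : IsScalarTower R R' R'' := IsScalarTower.of_algebraMap_eq' rfl
  haveI : Algebra.Etale R R'' := Algebra.Etale.comp R R' R''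
  let χ'' : R'' →ₐ[R] Ω := χ'.restrictScalars R
  let f : R' ⊗[R] S →ₐ[R'] R'' ⊗[R] S :=
    Algebra.TensorProduct.map (Algebra.ofId R' R'') (AlgHom.id R S)
  have hf : ∀ (θ : S →ₐ[R] Ω) (x : R' ⊗[R] S), ev χ'' θ (f x) = ev χ θ x := by
    intro θ x
    induction x using TensorProduct.induction_on with
    | zero => simp
    | add a b ha hb => simp [map_add, ha, hb]
    | tmul a b =>
      simp [f, ev, χ'', AlgHom.commutes, RingHom.algebraMap_toAlgebra]
  let e₁ := f e
  have hie₁ : IsIdempotentElem e₁ := hie.map f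
  let B := Localization.Away e₁
  let jB : R' ⊗[R] S →ₐ[R'] B := (IsScalarTower.toAlgHom R' (R'' ⊗[R] S) B).comp f
  let L : A →ₐ[R'] B := IsLocalization.Away.liftAlgHom e (f := jB)
    (IsLocalization.Away.algebraMap_isUnit (S := B) e₁)
  let g : A ⊗[R'] R'' →ₐ[R'] B :=
    Algebra.TensorProduct.lift L (IsScalarTower.toAlgHom R' R'' B) fun _ _ => .all _ _
  obtain ⟨b, hb⟩ := IsLocalization.Away.algebraMap_surjective_of_isIdempotentElem (S := B) e₁ hie₁
    (g ε)
  let e'' := b * e₁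
  have hie'' : IsIdempotentElem e'' := by
    have h1 : algebraMap (R'' ⊗[R] S) B (b * b) = algebraMap _ _ b := by
      rw [map_mul, hb, ← map_mul, hε.eq]
    obtain ⟨⟨_, n, rfl⟩, hn⟩ := (IsLocalization.eq_iff_exists (Submonoid.powers e₁) B).mp h1
    change b * e₁ * (b * e₁) = b * e₁
    have hn' : e₁ * (b * b) = e₁ * b := by
      have := congrArg (e₁ * ·) hn
      simp only [← mul_assoc] at this ⊢
      rwa [show e₁ * e₁ ^ n = e₁ by rw [← pow_succ', hie₁.pow_succ_eq]] at this
    calc b * e₁ * (b * e₁) = (e₁ * e₁) * (b * b) := by ring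
      _ = e₁ * (b * b) := by rw [hie₁.eq]
      _ = b * e₁ := by rw [hn', mul_comm]
  have hfin : Module.Finite R'' (Localization.Away e'') := by
    let jC : R' ⊗[R] S →ₐ[R'] Localization.Away e'' :=
      (IsScalarTower.toAlgHom R' (R'' ⊗[R] S) _).comp f
    have hu : IsUnit (jC e) :=
      isUnit_of_mul_isUnit_right (x := algebraMap (R'' ⊗[R] S) (Localization.Away e'') b)
        (by simpa [jC, e'', e₁, ← map_mul] using
          IsLocalization.Away.algebraMap_isUnit (S := Localization.Away e'') e'')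
    let LC : A →ₐ[R'] Localization.Away e'' := IsLocalization.Away.liftAlgHom e (f := jC) hu
    let gC : R'' ⊗[R'] A →ₐ[R''] Localization.Away e'' :=
      Algebra.TensorProduct.lift (Algebra.ofId R'' _) LC fun _ _ => .all _ _
    refine Module.Finite.of_surjective gC.toLinearMap fun z => ?_
    obtain ⟨z, rfl⟩ := IsLocalization.Away.algebraMap_surjective_of_isIdempotentElem
      (S := Localization.Away e'') e'' hie'' z
    induction z using TensorProduct.induction_on with
    | zero => exact ⟨0, by simp⟩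
    | add x y hx hy =>
      obtain ⟨x', hx'⟩ := hx
      obtain ⟨y', hy'⟩ := hy
      exact ⟨x' + y', by simp [map_add, hx', hy']⟩
    | tmul r s =>
      refine ⟨r ⊗ₜ algebraMap (R' ⊗[R] S) A (1 ⊗ₜ s), ?_⟩
      simp only [AlgHom.toLinearMap_apply, gC, Algebra.TensorProduct.lift_tmul, LC,
        IsLocalization.Away.coe_liftAlgHom, IsLocalization.Away.lift_eq, Algebra.ofId_apply]
      rw [IsScalarTower.algebraMap_apply R'' (R'' ⊗[R] S) (Localization.Away e'')]
      simp [jC, f, ← map_mul]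
  have heval : ∀ θ (h : ev χ θ e ≠ 0), ev χ'' θ b =
      Algebra.TensorProduct.lift (EA θ h) (AlgHom.id R' Ω) (fun _ _ => .all _ _)
        (Algebra.TensorProduct.map (AlgHom.id A A) χ' ε) := by
    intro θ h
    have hu : IsUnit (ev χ'' θ e₁) := by rw [hf]; exact Ne.isUnit h
    let evB : B →+* Ω := IsLocalization.Away.lift e₁ (g := (ev χ'' θ).toRingHom) hu
    have h1 : ev χ'' θ b = evB (g ε) := by
      rw [← hb]
      exact (IsLocalization.Away.lift_eq e₁ hu b).symm
    rw [h1]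
    have h2 : ∀ a : A, evB (L a) = EA θ h a := by
      intro a
      obtain ⟨x, rfl⟩ := IsLocalization.Away.algebraMap_surjective_of_isIdempotentElem (S := A) e hie a
      rw [hEA θ h, show L (algebraMap (R' ⊗[R] S) A x) = jB x from
        IsLocalization.Away.lift_eq e (g := jB.toRingHom) (IsLocalization.Away.algebraMap_isUnit (S := B) e₁) x]
      exact (IsLocalization.Away.lift_eq e₁ hu (f x)).trans (hf θ x)
    suffices H : ∀ z, evB (g z) = Algebra.TensorProduct.lift (EA θ h) (AlgHom.id R' Ω)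
        (fun _ _ => .all _ _) (Algebra.TensorProduct.map (AlgHom.id A A) χ' z) from H ε
    intro z
    induction z using TensorProduct.induction_on with
    | zero => simp
    | add x y hx hy => simp [map_add, hx, hy]
    | tmul a r =>
      simp only [g, Algebra.TensorProduct.lift_tmul, map_mul, Algebra.TensorProduct.map_tmul,
        AlgHom.id_apply, h2]
      congr 1
      rw [show IsScalarTower.toAlgHom R' R'' B r =
          algebraMap (R'' ⊗[R] S) B (r ⊗ₜ 1) from IsScalarTower.algebraMap_apply R'' (R'' ⊗[R] S) B r]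
      refine (IsLocalization.Away.lift_eq e₁ hu _).trans ?_
      simp [ev, χ'']
  refine ⟨R'', iR'', inferInstance, inferInstance, χ'', e'', hie'', hfin, ?_, ?_, fun θ hθ => ?_⟩
  · rw [map_mul, mul_ne_zero_iff, hf, heval φ hφ]
    exact ⟨hε1, hφ⟩
  · rw [map_mul, heval ψ hψ]
    exact mul_eq_zero_of_left hε2 _
  · rw [map_mul, mul_ne_zero_iff, hf] at hθ
    exact hθ.2

/-- Near a geometric point of a quasi-finite algebra, some étale neighbourhood of the base splits
off a finite piece with only this geometric point. -/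
theorem exists_etale_idem_single (φ : S →ₐ[R] Ω) [(RingHom.ker φ).IsPrime]
    [Algebra.QuasiFiniteAt R (RingHom.ker φ)] :
    ∃ (R' : Type u) (_ : CommRing R') (_ : Algebra R R') (_ : Algebra.Etale R R')
      (χ : R' →ₐ[R] Ω) (e : R' ⊗[R] S), IsIdempotentElem e ∧
      Module.Finite R' (Localization.Away e) ∧ ev χ φ e ≠ 0 ∧
      ∀ ψ : S →ₐ[R] Ω, ev χ ψ e ≠ 0 → ψ = φ := by
  let p := RingHom.ker (algebraMap R Ω)
  haveI : p.IsPrime := RingHom.ker_isPrime _
  haveI : (RingHom.ker φ).LiesOver p := ⟨by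
    ext r; simp [p, Ideal.under, RingHom.mem_ker]⟩
  obtain ⟨R', iR', iA', iEt, P, _, _, e, hie, P', _, _, hP'q, heP', hP, hfin, -⟩ :=
    Algebra.exists_etale_isIdempotentElem_forall_liesOver_eq p (RingHom.ker φ)
  let j : p.ResidueField →+* Ω := Ideal.ResidueField.lift p (algebraMap R Ω) le_rfl (by
    intro r hr
    exact Ne.isUnit fun h => hr h)
  let m := AlgEquiv.ofBijective (Ideal.ResidueField.mapₐ p P (Algebra.ofId _ _) (P.over_def p)) hP
  let χ : R' →ₐ[R] Ω :=
    { toRingHom := (j.comp m.symm.toRingEquiv.toRingHom).comp (algebraMap R' P.ResidueField)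
      commutes' := fun r => by
        change j (m.symm (algebraMap R' P.ResidueField (algebraMap R R' r))) = _
        rw [← IsScalarTower.algebraMap_apply R R' P.ResidueField, AlgEquiv.commutes]
        exact Ideal.ResidueField.lift_algebraMap .. }
  have hχ : ∀ x, χ x = 0 ↔ x ∈ P := fun x => by
    change (j.comp m.symm.toRingEquiv.toRingHom) (algebraMap R' P.ResidueField x) = 0 ↔ _
    rw [map_eq_zero_iff _ (RingHom.injective _), Ideal.algebraMap_residueField_eq_zero]
  haveI : (RingHom.ker (ev χ φ)).IsPrime := RingHom.ker_isPrime _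
  haveI : (RingHom.ker (ev χ φ)).LiesOver P := ⟨by
    ext x; simp [Ideal.under, ev, RingHom.mem_ker, hχ]⟩
  have hker : RingHom.ker (ev χ φ) = P' := by
    apply Ideal.eq_of_comap_eq_comap_of_bijective_residueFieldMap hP
    rw [hP'q]
    ext s
    simp [ev, RingHom.mem_ker]
  have h0 : ev χ φ e ≠ 0 := fun h => heP' (hker ▸ h)
  suffices H : ∀ (n : ℕ) (R' : Type u) [CommRing R'] [Algebra R R'] [Algebra.Etale R R']
      (χ : R' →ₐ[R] Ω) (e : R' ⊗[R] S), IsIdempotentElem e →
      Module.Finite R' (Localization.Away e) → ev χ φ e ≠ 0 →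
      {ψ : S →ₐ[R] Ω | ev χ ψ e ≠ 0}.ncard ≤ n →
      ∃ (R' : Type u) (_ : CommRing R') (_ : Algebra R R') (_ : Algebra.Etale R R')
      (χ : R' →ₐ[R] Ω) (e : R' ⊗[R] S), IsIdempotentElem e ∧
      Module.Finite R' (Localization.Away e) ∧ ev χ φ e ≠ 0 ∧
      ∀ ψ : S →ₐ[R] Ω, ev χ ψ e ≠ 0 → ψ = φ from
    H _ R' χ e hie hfin h0 le_rfl
  intro n
  induction n with
  | zero =>
    intro R' _ _ _ χ e _ hfin h0 hn
    rw [Nat.le_zero, Set.ncard_eq_zero (finite_points χ e hfin)] at hn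
    exact absurd h0 (Set.eq_empty_iff_forall_notMem.mp hn φ)
  | succ n ih =>
    intro R' _ _ _ χ e hie hfin h0 hn
    by_cases hall : ∀ ψ : S →ₐ[R] Ω, ev χ ψ e ≠ 0 → ψ = φ
    · exact ⟨R', _, _, inferInstance, χ, e, hie, hfin, h0, hall⟩
    push Not at hall
    obtain ⟨ψ, hψ, hne⟩ := hall
    obtain ⟨R'', _, _, _, χ'', e'', hie'', hfin'', h1, h2, h3⟩ :=
      exists_step χ e hie hfin φ ψ h0 hψ (Ne.symm hne)
    refine ih R'' χ'' e'' hie'' hfin'' h1 ?_
    have hsub : {θ : S →ₐ[R] Ω | ev χ'' θ e'' ≠ 0} ⊆ {θ | ev χ θ e ≠ 0} \ {ψ} := fun θ hθ =>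
      ⟨h3 θ hθ, fun h => hθ (by rw [show θ = ψ from h]; exact h2)⟩
    have := Set.ncard_le_ncard hsub ((finite_points χ e hfin).sdiff)
    rw [Set.ncard_sdiff_singleton_of_mem (by exact hψ)] at this
    omega

end Groth.L20.Weight
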